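import Mathlib

/-!
# Endomorphisms killed by an irreducible polynomial (tool for semisimple conjugacy)

`f` irreducible over a field `F`, `T` an endomorphism of a finite-dimensional `F`-space `V` with `f(T) = 0`.  Then `V` is a vector
space over `K = F[X]/(f)` (`AdjoinRoot f`, `root` acting as `T`), hence:

* `td_cyclic_basis`: there are `u j` (`j : Fin b`) such that `T ^ i (u j)` (`i < deg f`) form an `F`-basis of `V`;
  `finrank F V = deg f * b`.
* `td_conj_of_irreducible`: two such pairs `(V, T)`, `(V', T')` of the same dimension are conjugate: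
  some `F`-linear equivalence `g : V ≃ V'` has `g (T v) = T' (g v)`.
-/

set_option autoImplicit false
set_option linter.unusedVariables false
set_option linter.unusedSectionVars false

namespace Cfsg.Agent.Lib.Helper22.TD

open Polynomial
open Classical
open scoped IsMulCommutative

variable {F : Type*} [Field F]

/-- the `AdjoinRoot f`-module structure on `V` in which `root f` acts as `T`: the algebra homomorphism. -/
theorem td_adjoinRoot_hom {V : Type*} [AddCommGroup V] [Module F V] (f : F[X]) (T : Module.End F V)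
    (hT : Polynomial.aeval T f = 0) :
    ∃ φ : AdjoinRoot f →ₐ[F] Module.End F V, φ (AdjoinRoot.root f) = T := by
  set A : Subalgebra F (Module.End F V) := Algebra.adjoin F ({T} : Set (Module.End F V)) with hA
  have hAcomm : IsMulCommutative A := Algebra.isMulCommutative_adjoin F (fun a ha b hb => by
    rw [Set.mem_singleton_iff] at ha hb
    rw [ha, hb])
  set T' : A := ⟨T, Algebra.self_mem_adjoin_singleton F T⟩ with hT'
  have hroot' : f.eval₂ (Algebra.ofId F A : F →+* A) T' = 0 := by
    have h1 : Polynomial.aeval T' f = 0 := by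
      apply Subtype.ext
      rw [Polynomial.aeval_subalgebra_coe]
      exact hT
    rw [← h1, Polynomial.aeval_def]
    rfl
  refine ⟨A.val.comp (AdjoinRoot.liftAlgHom f (Algebra.ofId F A) T' hroot'), ?_⟩
  rw [AlgHom.comp_apply, AdjoinRoot.liftAlgHom_root]
  rfl

theorem td_cyclic_basis {V : Type*} [AddCommGroup V] [Module F V] [FiniteDimensional F V] (f : F[X])
    (hf : Irreducible f) (T : Module.End F V) (hT : Polynomial.aeval T f = 0) :
    ∃ (b : ℕ) (B : Module.Basis (Fin f.natDegree × Fin b) F V),
      Module.finrank F V = f.natDegree * b ∧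
      ∀ (i : Fin f.natDegree) (j : Fin b) (h0 : 0 < f.natDegree),
        B (i, j) = (T ^ (i : ℕ)) (B (⟨0, h0⟩, j)) := by
  have hf0 : f ≠ 0 := hf.ne_zero
  have : Fact (Irreducible f) := ⟨hf⟩
  obtain ⟨φ, hφroot⟩ := td_adjoinRoot_hom f T hT
  let instM : Module (AdjoinRoot f) V := Module.compHom V (φ : AdjoinRoot f →+* Module.End F V)
  have hsmul : ∀ (k : AdjoinRoot f) (v : V), k • v = φ k v := fun k v => rfl
  have instT : IsScalarTower F (AdjoinRoot f) V := ⟨fun a k v => by
    rw [hsmul, hsmul, map_smul]
    rfl⟩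
  have : Module.Finite (AdjoinRoot f) V := Module.Finite.of_restrictScalars_finite F _ _
  have hdim : (AdjoinRoot.powerBasis hf0).dim = f.natDegree := AdjoinRoot.powerBasis_dim hf0
  set bK : Module.Basis (Fin f.natDegree) F (AdjoinRoot f) :=
    (AdjoinRoot.powerBasis hf0).basis.reindex (finCongr hdim) with hbK
  set bV := Module.finBasis (AdjoinRoot f) V with hbV
  refine ⟨Module.finrank (AdjoinRoot f) V, bK.smulTower bV, ?_, ?_⟩
  · have h1 := Module.finrank_mul_finrank F (AdjoinRoot f) V
    rw [(AdjoinRoot.powerBasis hf0).finrank, hdim] at h1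
    exact h1.symm
  · intro i j h0
    rw [Module.Basis.smulTower_apply, Module.Basis.smulTower_apply]
    have hi : ∀ i : Fin f.natDegree, bK i = AdjoinRoot.root f ^ (i : ℕ) := by
      intro i
      rw [hbK, Module.Basis.reindex_apply, PowerBasis.basis_eq_pow, AdjoinRoot.powerBasis_gen]
      simp
    simp only
    rw [hi i, hi ⟨0, h0⟩, pow_zero, one_smul, hsmul, map_pow, hφroot]

theorem td_conj_of_irreducible {V V' : Type*} [AddCommGroup V] [Module F V] [FiniteDimensional F V]
    [AddCommGroup V'] [Module F V'] [FiniteDimensional F V'] (f : F[X]) (hf : Irreducible f)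
    (T : Module.End F V) (hT : Polynomial.aeval T f = 0)
    (T' : Module.End F V') (hT' : Polynomial.aeval T' f = 0)
    (hdim : Module.finrank F V = Module.finrank F V') :
    ∃ g : V ≃ₗ[F] V', ∀ v, g (T v) = T' (g v) := by
  have hf0 : f ≠ 0 := hf.ne_zero
  have : Fact (Irreducible f) := ⟨hf⟩
  obtain ⟨φ, hφroot⟩ := td_adjoinRoot_hom f T hT
  obtain ⟨φ', hφ'root⟩ := td_adjoinRoot_hom f T' hT'
  let instM : Module (AdjoinRoot f) V := Module.compHom V (φ : AdjoinRoot f →+* Module.End F V)
  let instM' : Module (AdjoinRoot f) V' := Module.compHom V' (φ' : AdjoinRoot f →+* Module.End F V')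
  have hsmul : ∀ (k : AdjoinRoot f) (v : V), k • v = φ k v := fun k v => rfl
  have hsmul' : ∀ (k : AdjoinRoot f) (v : V'), k • v = φ' k v := fun k v => rfl
  have instT : IsScalarTower F (AdjoinRoot f) V := ⟨fun a k v => by
    rw [hsmul, hsmul, map_smul]
    rfl⟩
  have instT' : IsScalarTower F (AdjoinRoot f) V' := ⟨fun a k v => by
    rw [hsmul', hsmul', map_smul]
    rfl⟩
  have : Module.Finite (AdjoinRoot f) V := Module.Finite.of_restrictScalars_finite F _ _
  have : Module.Finite (AdjoinRoot f) V' := Module.Finite.of_restrictScalars_finite F _ _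
  have hK : Module.finrank (AdjoinRoot f) V = Module.finrank (AdjoinRoot f) V' := by
    have h1 := Module.finrank_mul_finrank F (AdjoinRoot f) V
    have h2 := Module.finrank_mul_finrank F (AdjoinRoot f) V'
    rw [hdim, ← h2] at h1
    have hpos : 0 < Module.finrank F (AdjoinRoot f) := by
      rw [(AdjoinRoot.powerBasis hf0).finrank, AdjoinRoot.powerBasis_dim hf0]
      exact hf.natDegree_pos
    exact Nat.eq_of_mul_eq_mul_left hpos h1
  obtain ⟨gK⟩ := FiniteDimensional.nonempty_linearEquiv_of_finrank_eq hK
  refine ⟨gK.restrictScalars F, ?_⟩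
  intro v
  have h1 : T v = AdjoinRoot.root f • v := by rw [hsmul, hφroot]
  have h2 : ∀ w : V', T' w = AdjoinRoot.root f • w := by intro w; rw [hsmul', hφ'root]
  rw [h1, h2]
  exact gK.map_smul _ _

end Cfsg.Agent.Lib.Helper22.TD
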