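import Cfsg.Agent.Lib.Helper21.TPC1

/-!
# S5979 (tensor decompositions, elements of prime order): rank lemmas for Kronecker products

* `td_rank_ge`: if `α u ∉ F u` and `β` is injective then `rank (α ⊗ β - l) ≥ b` for every scalar `l`.
* `td_rank_one_kron`: `rank (1_a ⊗ γ) = a * rank γ`.
* `td_left_scalar`: if `rank (α ⊗ β - l) < b` for some `l` then `α` is scalar.
-/

set_option autoImplicit false
set_option linter.unusedVariables false
set_option linter.unusedSectionVars false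

namespace Cfsg.Agent.Lib.Helper22.TD

open Matrix
open scoped Kronecker
open Cfsg.Agent.Lib.helper7.TP

variable {F : Type*} [Field F] {a b : ℕ}

/-- entries of `(1 ⊗ γ) v`. -/
theorem td_one_kron_mulVec (γ : Matrix (Fin b) (Fin b) F) (v : Fin a × Fin b → F)
    (i : Fin a) (j : Fin b) :
    (((1 : Matrix (Fin a) (Fin a) F) ⊗ₖ γ) *ᵥ v) (i, j) = (γ *ᵥ fun j' => v (i, j')) j := by
  simp only [Matrix.mulVec, dotProduct, Fintype.sum_prod_type, Matrix.kroneckerMap_apply,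
    Matrix.one_apply]
  rw [Finset.sum_eq_single i]
  · simp
  · intro i' _ hi'
    have : ¬ (i = i') := fun h => hi' h.symm
    simp [this]
  · intro h
    exact absurd (Finset.mem_univ i) h

/-- `rank (1_a ⊗ γ) = a * rank γ`. -/
theorem td_rank_one_kron (γ : Matrix (Fin b) (Fin b) F) :
    ((1 : Matrix (Fin a) (Fin a) F) ⊗ₖ γ).rank = a * γ.rank := by
  classical
  let Φ : (Fin a → LinearMap.range γ.mulVecLin) →ₗ[F] (Fin a × Fin b → F) :=
    { toFun := fun f p => (f p.1 : Fin b → F) p.2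
      map_add' := by intro f g; funext p; simp
      map_smul' := by intro c f; funext p; simp }
  have hΦ : ∀ f p, Φ f p = (f p.1 : Fin b → F) p.2 := fun f p => rfl
  have hinj : Function.Injective Φ := by
    intro f g h
    funext i
    apply Subtype.ext
    funext j
    exact congrFun h (i, j)
  have hrange : LinearMap.range Φ =
      LinearMap.range ((1 : Matrix (Fin a) (Fin a) F) ⊗ₖ γ).mulVecLin := by
    apply le_antisymm
    · rintro _ ⟨f, rfl⟩
      have : ∀ i, ∃ g : Fin b → F, γ *ᵥ g = (f i : Fin b → F) := fun i => by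
        obtain ⟨g, hg⟩ := (f i).2
        exact ⟨g, by rw [← hg, Matrix.mulVecLin_apply]⟩
      choose g hg using this
      refine ⟨fun p => g p.1 p.2, ?_⟩
      funext p
      obtain ⟨i, j⟩ := p
      rw [Matrix.mulVecLin_apply, td_one_kron_mulVec, hΦ]
      exact congrFun (hg i) j
    · rintro _ ⟨v, rfl⟩
      refine ⟨fun i => ⟨γ *ᵥ (fun j' => v (i, j')), ⟨_, Matrix.mulVecLin_apply _ _⟩⟩, ?_⟩
      funext p
      obtain ⟨i, j⟩ := p
      rw [Matrix.mulVecLin_apply, td_one_kron_mulVec, hΦ]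
  rw [Matrix.rank, ← hrange, LinearMap.finrank_range_of_inj hinj, Module.finrank_pi_fintype]
  simp [Matrix.rank]

/-- `1 ⊗ γ - l = 1 ⊗ (γ - l)`. -/
theorem td_one_kron_sub (γ : Matrix (Fin b) (Fin b) F) (l : F) :
    (1 : Matrix (Fin a) (Fin a) F) ⊗ₖ γ - l • (1 : Matrix (Fin a × Fin b) (Fin a × Fin b) F) =
      (1 : Matrix (Fin a) (Fin a) F) ⊗ₖ (γ - l • (1 : Matrix (Fin b) (Fin b) F)) := by
  have h1 : (1 : Matrix (Fin a × Fin b) (Fin a × Fin b) F) =
      (1 : Matrix (Fin a) (Fin a) F) ⊗ₖ (1 : Matrix (Fin b) (Fin b) F) :=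
    (Matrix.one_kronecker_one).symm
  rw [sub_eq_iff_eq_add, h1, ← Matrix.kronecker_smul, ← Matrix.kronecker_add, sub_add_cancel]

/-- if `α u ∉ F u` and `β` is injective then `rank (α ⊗ β - l) ≥ b` for every scalar `l`. -/
theorem td_rank_ge (α : Matrix (Fin a) (Fin a) F) (β : Matrix (Fin b) (Fin b) F)
    (hβ : ∀ w : Fin b → F, β *ᵥ w = 0 → w = 0)
    (u : Fin a → F) (hu : ∀ c : F, α *ᵥ u ≠ c • u) (l : F) :
    b ≤ (α ⊗ₖ β - l • (1 : Matrix (Fin a × Fin b) (Fin a × Fin b) F)).rank := by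
  classical
  have hN : ∀ w : Fin b → F, (α ⊗ₖ β - l • (1 : Matrix (Fin a × Fin b) (Fin a × Fin b) F)) *ᵥ ten u w =
      ten (α *ᵥ u) (β *ᵥ w) - l • ten u w := by
    intro w
    rw [Matrix.sub_mulVec, Matrix.smul_mulVec, Matrix.one_mulVec, kron_mulVec_ten]
  let φ : (Fin b → F) →ₗ[F] (Fin a × Fin b → F) :=
    { toFun := fun w => (α ⊗ₖ β - l • (1 : Matrix (Fin a × Fin b) (Fin a × Fin b) F)) *ᵥ ten u w
      map_add' := by
        intro w w'
        rw [ten_add_right, Matrix.mulVec_add]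
      map_smul' := by
        intro c w
        rw [ten_smul_right, Matrix.mulVec_smul, RingHom.id_apply] }
  have hφ : ∀ w, φ w = (α ⊗ₖ β - l • (1 : Matrix (Fin a × Fin b) (Fin a × Fin b) F)) *ᵥ ten u w :=
    fun w => rfl
  have hinj : Function.Injective φ := by
    rw [← LinearMap.ker_eq_bot, LinearMap.ker_eq_bot']
    intro w hw
    rw [hφ, hN, sub_eq_zero] at hw
    by_contra hw0
    have hβw : β *ᵥ w ≠ 0 := fun h => hw0 (hβ w h)
    obtain ⟨j, hj⟩ := Function.ne_iff.1 hβw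
    simp only [Pi.zero_apply] at hj
    apply hu (l * w j / (β *ᵥ w) j)
    funext i
    have h1 := congrFun hw (i, j)
    simp only [ten, Pi.smul_apply, smul_eq_mul] at h1 ⊢
    field_simp
    rw [h1]
    ring
  have h := tpc1_le_rank (α ⊗ₖ β - l • (1 : Matrix (Fin a × Fin b) (Fin a × Fin b) F)) φ hinj
    (fun w => ⟨ten u w, hφ w⟩)
  rwa [Module.finrank_fin_fun] at h

/-- if `rank (α ⊗ β - l) < b` for some `l` (β injective) then `α` is scalar. -/
theorem td_left_scalar (ha : 1 ≤ a) (α : Matrix (Fin a) (Fin a) F) (β : Matrix (Fin b) (Fin b) F)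
    (hβ : ∀ w : Fin b → F, β *ᵥ w = 0 → w = 0) (l : F)
    (hr : (α ⊗ₖ β - l • (1 : Matrix (Fin a × Fin b) (Fin a × Fin b) F)).rank < b) :
    ∃ c : F, α = c • (1 : Matrix (Fin a) (Fin a) F) := by
  apply tpc1_scalar_of_all_eigen ha
  by_contra hcon
  push Not at hcon
  obtain ⟨u, hu⟩ := hcon
  have := td_rank_ge α β hβ u hu l
  omega

/-- `(c • 1) ⊗ β = 1 ⊗ (c • β)`. -/
theorem td_smul_one_kron (c : F) (β : Matrix (Fin b) (Fin b) F) :
    (c • (1 : Matrix (Fin a) (Fin a) F)) ⊗ₖ β = (1 : Matrix (Fin a) (Fin a) F) ⊗ₖ (c • β) := by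
  rw [Matrix.smul_kronecker, Matrix.kronecker_smul]

/-- `1 ⊗ γ = 1 ⊗ γ'` implies `γ = γ'` (`a ≥ 1`). -/
theorem td_one_kron_inj (ha : 1 ≤ a) (γ γ' : Matrix (Fin b) (Fin b) F)
    (h : (1 : Matrix (Fin a) (Fin a) F) ⊗ₖ γ = (1 : Matrix (Fin a) (Fin a) F) ⊗ₖ γ') : γ = γ' := by
  ext j j'
  have := congrFun (congrFun h (⟨0, ha⟩, j)) (⟨0, ha⟩, j')
  simpa [Matrix.kroneckerMap_apply] using this

/-- powers of `1 ⊗ γ`. -/
theorem td_one_kron_pow (γ : Matrix (Fin b) (Fin b) F) (k : ℕ) :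
    ((1 : Matrix (Fin a) (Fin a) F) ⊗ₖ γ) ^ k = (1 : Matrix (Fin a) (Fin a) F) ⊗ₖ (γ ^ k) := by
  induction k with
  | zero => rw [pow_zero, pow_zero, Matrix.one_kronecker_one]
  | succ k ih => rw [pow_succ, ih, ← Matrix.mul_kronecker_mul, one_mul, pow_succ]

/-- powers of `α ⊗ β`. -/
theorem td_kron_pow (α : Matrix (Fin a) (Fin a) F) (β : Matrix (Fin b) (Fin b) F) (k : ℕ) :
    (α ⊗ₖ β) ^ k = (α ^ k) ⊗ₖ (β ^ k) := by
  induction k with
  | zero => rw [pow_zero, pow_zero, pow_zero, Matrix.one_kronecker_one]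
  | succ k ih => rw [pow_succ, ih, ← Matrix.mul_kronecker_mul, pow_succ, pow_succ]

/-- `α ⊗ β = z • 1` with `z ≠ 0` forces `α` and `β` to be scalar. -/
theorem td_kron_eq_smul (ha : 1 ≤ a) (hb : 1 ≤ b) (α : Matrix (Fin a) (Fin a) F)
    (β : Matrix (Fin b) (Fin b) F)
    (z : F) (hz : z ≠ 0) (h : α ⊗ₖ β = z • (1 : Matrix (Fin a × Fin b) (Fin a × Fin b) F)) :
    ∃ c : F, c ≠ 0 ∧ α = c • (1 : Matrix (Fin a) (Fin a) F) ∧
      β = (z / c) • (1 : Matrix (Fin b) (Fin b) F) := by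
  classical
  have key : ∀ i i' j j', α i i' * β j j' = z * ((if i = i' then 1 else 0) * (if j = j' then 1 else 0)) := by
    intro i i' j j'
    have := congrFun (congrFun h (i, j)) (i', j')
    simp only [Matrix.kroneckerMap_apply, Matrix.smul_apply, Matrix.one_apply, Prod.mk.injEq,
      smul_eq_mul] at this
    rw [this]
    by_cases h1 : i = i' <;> by_cases h2 : j = j' <;> simp [h1, h2]
  have h00 := key ⟨0, ha⟩ ⟨0, ha⟩ ⟨0, hb⟩ ⟨0, hb⟩
  simp only [if_true, mul_one] at h00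
  have hα0 : α ⟨0, ha⟩ ⟨0, ha⟩ ≠ 0 := by
    intro h0
    rw [h0, zero_mul] at h00
    exact hz h00.symm
  have hβ0 : β ⟨0, hb⟩ ⟨0, hb⟩ ≠ 0 := by
    intro h0
    rw [h0, mul_zero] at h00
    exact hz h00.symm
  refine ⟨α ⟨0, ha⟩ ⟨0, ha⟩, hα0, ?_, ?_⟩
  · ext i i'
    have := key i i' ⟨0, hb⟩ ⟨0, hb⟩
    simp only [if_true, mul_one] at this
    rw [Matrix.smul_apply, Matrix.one_apply, smul_eq_mul]
    have h2 : α i i' = z * (if i = i' then 1 else 0) / β ⟨0, hb⟩ ⟨0, hb⟩ := by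
      field_simp
      exact this
    rw [h2]
    have h3 : z = α ⟨0, ha⟩ ⟨0, ha⟩ * β ⟨0, hb⟩ ⟨0, hb⟩ := h00.symm
    rw [h3]
    field_simp
  · ext j j'
    have := key ⟨0, ha⟩ ⟨0, ha⟩ j j'
    simp only [if_true, one_mul] at this
    rw [Matrix.smul_apply, Matrix.one_apply, smul_eq_mul]
    field_simp
    rw [mul_comm]
    exact this

end Cfsg.Agent.Lib.Helper22.TD
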