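import Mathlib

/-!
# S5979: arithmetic in a finite field `F` with `q` elements

* `td_exists_c`: if `v₂(n) < v₂(q - 1)` (`char ≠ 2`) some `c` has `c ^ n = -1`.
* `td_no_c`: conversely if `v₂(q - 1) ≤ v₂(n)` (`n` even) no `c` has `c ^ n = -1`.
* `td_exists_omega`: a prime `r ∣ q - 1` gives `ω` of order `r`.
* `td_order_le`: `r ∣ |GL_n(q)|`, `r ∤ q`: the order of `q` modulo `r` is at most `n`.
-/

set_option autoImplicit false
set_option linter.unusedVariables false
set_option linter.unusedSectionVars false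

namespace Cfsg.Agent.Lib.Helper22.TD

open Classical

variable {F : Type*} [Field F] [Fintype F]

theorem td_card_units : Nat.card Fˣ = Fintype.card F - 1 := by
  rw [Nat.card_eq_fintype_card, Fintype.card_units]

theorem td_exists_c (p : ℕ) [CharP F p] (hp2 : p ≠ 2) (n : ℕ) (hn : n ≠ 0)
    (hv : padicValNat 2 n < padicValNat 2 (Fintype.card F - 1)) : ∃ c : F, c ^ n = -1 := by
  obtain ⟨g, hg⟩ := IsCyclic.exists_ofOrder_eq_natCard (α := Fˣ)
  rw [td_card_units] at hg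
  set N := Fintype.card F - 1 with hN
  set t := padicValNat 2 n with ht
  have hN0 : N ≠ 0 := by
    intro h
    rw [h] at hv
    simp at hv
  have hdvd : 2 ^ (t + 1) ∣ N := (padicValNat_dvd_iff_le hN0).mpr hv
  obtain ⟨M, hM⟩ := hdvd
  have hM0 : M ≠ 0 := by
    rintro rfl
    exact hN0 (by rw [hM, mul_zero])
  set c₀ : Fˣ := g ^ M with hc₀
  have ho : orderOf c₀ = 2 ^ (t + 1) := by
    rw [hc₀, orderOf_pow_of_dvd hM0 (by rw [hg, hM]; exact dvd_mul_left _ _), hg, hM]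
    exact Nat.mul_div_cancel _ (Nat.pos_of_ne_zero hM0)
  set y : Fˣ := c₀ ^ (2 ^ t) with hy
  have hoy : orderOf y = 2 := by
    rw [hy, orderOf_pow_of_dvd (by positivity) (by rw [ho]; exact pow_dvd_pow 2 (Nat.le_succ t)), ho,
      pow_succ]
    exact Nat.mul_div_cancel_left _ (by positivity)
  have hy1 : (y : F) = -1 := by
    rw [← CharP.orderOf_eq_two_iff p hp2, orderOf_units, hoy]
  -- n = 2^t * n' with n' odd
  obtain ⟨n', hn'⟩ : 2 ^ t ∣ n := pow_padicValNat_dvd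
  have hodd : Odd n' := by
    rw [← Nat.not_even_iff_odd]
    rintro ⟨s, hs⟩
    have : 2 ^ (t + 1) ∣ n := ⟨s, by rw [hn', hs, pow_succ]; ring⟩
    exact pow_succ_padicValNat_not_dvd hn this
  refine ⟨(c₀ : F), ?_⟩
  rw [hn', pow_mul, ← Units.val_pow_eq_pow_val, ← hy, hy1, hodd.neg_one_pow]

/-- if `v₂(q - 1) ≤ v₂(n)` no `c` has `c ^ n = -1` (odd characteristic, `n` even). -/
theorem td_no_c (h2 : (2 : F) ≠ 0) (n : ℕ) (hn : n ≠ 0)
    (hv : padicValNat 2 (Fintype.card F - 1) ≤ padicValNat 2 n) (c : F) (hc : c ^ n = -1) : False := by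
  have hc0 : c ≠ 0 := by
    rintro rfl
    rw [zero_pow hn] at hc
    have : (1 : F) = 0 := by linear_combination hc
    exact one_ne_zero this
  have hq : c ^ (Fintype.card F - 1) = 1 := FiniteField.pow_card_sub_one_eq_one c hc0
  set N := Fintype.card F - 1 with hN
  have hN0 : N ≠ 0 := by
    have : 1 < Fintype.card F := Fintype.one_lt_card
    omega
  -- write N = 2^s * N', N' odd, with 2^s ∣ n
  set s := padicValNat 2 N with hs
  obtain ⟨N', hN'⟩ : 2 ^ s ∣ N := pow_padicValNat_dvd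
  have hodd : Odd N' := by
    rw [← Nat.not_even_iff_odd]
    rintro ⟨u, hu⟩
    have : 2 ^ (s + 1) ∣ N := ⟨u, by rw [hN', hu, pow_succ]; ring⟩
    exact pow_succ_padicValNat_not_dvd hN0 this
  have hsn : 2 ^ s ∣ n := (padicValNat_dvd_iff_le hn).mpr hv
  obtain ⟨n', hn'⟩ := hsn
  -- (c^n)^N' = (c^N)^n' = 1, but (c^n)^N' = (-1)^N' = -1
  have h1 : (c ^ n) ^ N' = 1 := by
    rw [← pow_mul, hn', mul_assoc, mul_comm n' N', ← mul_assoc, ← hN', pow_mul, hq, one_pow]
  rw [hc, hodd.neg_one_pow] at h1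
  apply h2
  linear_combination -h1

theorem td_exists_omega (r : ℕ) [Fact r.Prime] (hr : r ∣ Fintype.card F - 1) :
    ∃ ω : F, ω ≠ 0 ∧ ω ^ r = 1 ∧ ω ≠ 1 ∧ (r ≠ 2 → ω ^ 2 ≠ 1) := by
  have hrp : r.Prime := Fact.out
  have h1 : r ∣ Fintype.card Fˣ := by rwa [Fintype.card_units]
  obtain ⟨ω, hω⟩ := exists_prime_orderOf_dvd_card r h1
  refine ⟨(ω : F), Units.ne_zero ω, ?_, ?_, ?_⟩
  · rw [← Units.val_pow_eq_pow_val, ← hω, pow_orderOf_eq_one, Units.val_one]
  · intro h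
    have : ω = 1 := Units.ext h
    rw [this, orderOf_one] at hω
    exact hrp.one_lt.ne hω
  · intro hr2 h
    have h2 : ω ^ 2 = 1 := Units.ext (by rw [Units.val_pow_eq_pow_val, h, Units.val_one])
    have := orderOf_dvd_of_pow_eq_one h2
    rw [hω] at this
    exact hr2 ((Nat.prime_dvd_prime_iff_eq hrp Nat.prime_two).mp this)

/-- `r ∣ |GL_n(q)|`, `r ∤ q`: the order of `q` modulo `r` is at most `n`. -/
theorem td_order_le (r : ℕ) [Fact r.Prime] (n : ℕ) (hrq : ¬ r ∣ Fintype.card F)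
    (hr : r ∣ Nat.card (GL (Fin n) F)) : orderOf ((Fintype.card F : ℕ) : ZMod r) ≤ n := by
  have hrp : r.Prime := Fact.out
  rw [Matrix.card_GL_field] at hr
  obtain ⟨i, -, hi⟩ := (Prime.dvd_finsetProd_iff (Nat.prime_iff.mp hrp) _).mp hr
  set q := Fintype.card F with hq
  have hin : (i : ℕ) < n := i.2
  have h1 : q ^ n - q ^ (i : ℕ) = q ^ (i : ℕ) * (q ^ (n - i) - 1) := by
    rw [Nat.mul_sub, mul_one, ← pow_add]
    congr 2
    omega
  rw [h1] at hi
  have h2 : r ∣ q ^ (n - i) - 1 := by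
    rcases (Nat.Prime.dvd_mul hrp).mp hi with h | h
    · exact absurd (hrp.dvd_of_dvd_pow h) hrq
    · exact h
  have h3 : ((q : ℕ) : ZMod r) ^ (n - i) = 1 := by
    have : ((q ^ (n - i) : ℕ) : ZMod r) = ((1 : ℕ) : ZMod r) := by
      rw [ZMod.natCast_eq_natCast_iff]
      exact ((Nat.modEq_iff_dvd' (Nat.one_le_pow _ _ (Fintype.card_pos))).mpr h2).symm
    push_cast at this
    exact this
  have h4 := orderOf_dvd_of_pow_eq_one h3
  have := Nat.le_of_dvd (by omega) h4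
  omega

end Cfsg.Agent.Lib.Helper22.TD
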