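import Cfsg.Agent.Lib.Helper22.TD.Elts

/-!
# S5979: the derangement `C ⊕ 1` with `C ∈ GL_i(q)` of order `r`, `i = ord_r(q) ≥ 2`
-/

set_option autoImplicit false
set_option linter.unusedVariables false
set_option linter.unusedSectionVars false
set_option linter.unusedSimpArgs false

namespace Cfsg.Agent.Lib.Helper22.TD

open Matrix
open scoped Kronecker
open Classical

variable {F : Type*} [Field F] {a b n : ℕ}

theorem td_fromBlocks_pow {m k : ℕ} (C : Matrix (Fin m) (Fin m) F) (j : ℕ) :
    (Matrix.fromBlocks C 0 0 (1 : Matrix (Fin k) (Fin k) F)) ^ j =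
      Matrix.fromBlocks (C ^ j) 0 0 (1 : Matrix (Fin k) (Fin k) F) := by
  induction j with
  | zero => rw [pow_zero, pow_zero, Matrix.fromBlocks_one]
  | succ j ih =>
    rw [pow_succ, ih, Matrix.fromBlocks_multiply, pow_succ]
    simp

theorem td_fromBlocks_rank {m k : ℕ} (A : Matrix (Fin m) (Fin m) F) :
    (Matrix.fromBlocks A 0 0 (0 : Matrix (Fin k) (Fin k) F)).rank ≤ m := by
  have h := Matrix.rank_le_card_of_support_subset
    (Matrix.fromBlocks A 0 0 (0 : Matrix (Fin k) (Fin k) F))
    (Finset.univ.image (Sum.inl : Fin m → Fin m ⊕ Fin k)) (by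
      intro i hi
      rw [Function.mem_support] at hi
      rcases i with i | i
      · simp
      · exfalso
        apply hi
        funext j
        rcases j with j | j <;> simp [Matrix.row])
  refine le_trans h ?_
  refine le_trans Finset.card_image_le ?_
  simp

variable [Fintype F]

/-- an element of order `r` of `GL_i(q)`, `i = ord_r(q)`. -/
theorem td_exists_C (r : ℕ) [Fact r.Prime] (hrq : ¬ r ∣ Fintype.card F) :
    ∃ C : GL (Fin (orderOf ((Fintype.card F : ℕ) : ZMod r))) F, orderOf C = r := by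
  have hrp : r.Prime := Fact.out
  set q := Fintype.card F with hq
  set i := orderOf ((q : ℕ) : ZMod r) with hi
  have hqr : IsUnit ((q : ℕ) : ZMod r) := by
    rw [ZMod.isUnit_iff_coprime]
    rw [Nat.coprime_comm]
    exact (Nat.Prime.coprime_iff_not_dvd hrp).mpr hrq
  have hi0 : 0 < i := by
    rw [hi]
    exact (hqr.isOfFinOrder).orderOf_pos
  have hdvd : r ∣ Nat.card (GL (Fin i) F) := by
    rw [Matrix.card_GL_field]
    have h0 : r ∣ q ^ i - q ^ ((⟨0, hi0⟩ : Fin i) : ℕ) := by
      simp only [pow_zero]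
      have h1 : ((q ^ i : ℕ) : ZMod r) = ((1 : ℕ) : ZMod r) := by
        push_cast
        rw [hi]
        exact pow_orderOf_eq_one _
      rw [ZMod.natCast_eq_natCast_iff] at h1
      exact (Nat.modEq_iff_dvd' (Nat.one_le_pow _ _ (Fintype.card_pos))).mp h1.symm
    exact h0.trans (Finset.dvd_prod_of_mem _ (Finset.mem_univ (⟨0, hi0⟩ : Fin i)))
  have : Finite (GL (Fin i) F) := inferInstance
  rw [Nat.card_eq_fintype_card] at hdvd
  exact exists_prime_orderOf_dvd_card r hdvd

/-- `r ∤ q`, `ord_r(q) ≥ 2`: `C ⊕ 1`. -/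
theorem td_case_block (ha : 2 ≤ a) (hab : a < b) (hn : n = a * b)
    (e : Fin n ≃ Fin a × Fin b) (P : GL (Fin n) F) (r : ℕ) [Fact r.Prime]
    (hrq : ¬ r ∣ Fintype.card F) (hi2 : 2 ≤ orderOf ((Fintype.card F : ℕ) : ZMod r))
    (hin : orderOf ((Fintype.card F : ℕ) : ZMod r) ≤ n) (hall : TdAll a b e P r) : False := by
  have hrp : r.Prime := Fact.out
  set m := orderOf ((Fintype.card F : ℕ) : ZMod r) with hm
  obtain ⟨C, hC⟩ : ∃ C : GL (Fin m) F, orderOf C = r := td_exists_C (F := F) r hrq
  have hr1 : ¬ r ∣ Fintype.card F - 1 := by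
    intro h
    have h1 : ((Fintype.card F : ℕ) : ZMod r) = 1 := by
      have : ((Fintype.card F : ℕ) : ZMod r) = ((1 : ℕ) : ZMod r) := by
        rw [ZMod.natCast_eq_natCast_iff]
        exact ((Nat.modEq_iff_dvd' Fintype.card_pos).mpr h).symm
      simpa using this
    rw [hm, h1, orderOf_one] at hi2
    omega
  have hcop : Nat.Coprime r (Fintype.card F - 1) := (Nat.Prime.coprime_iff_not_dvd hrp).mpr hr1
  have hCr : C ^ r = 1 := by rw [← hC]; exact pow_orderOf_eq_one C
  have hC1 : C ≠ 1 := by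
    intro h
    rw [h, orderOf_one] at hC
    exact hrp.one_lt.ne hC
  have hCrM : (C : Matrix (Fin m) (Fin m) F) ^ r = 1 := by
    rw [← Units.val_pow_eq_pow_val, hCr, Units.val_one]
  have hdetC : (C : Matrix (Fin m) (Fin m) F).det = 1 := by
    have h1 : (C : Matrix (Fin m) (Fin m) F).det ^ r = 1 := by
      rw [← Matrix.det_pow, hCrM, Matrix.det_one]
    have h2 : (C : Matrix (Fin m) (Fin m) F).det ^ (Fintype.card F - 1) = 1 :=
      FiniteField.pow_card_sub_one_eq_one _ (td_det_ne_zero C)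
    have := pow_gcd_eq_one.mpr ⟨h1, h2⟩
    rwa [hcop.gcd_eq_one, pow_one] at this
  -- the block matrix
  have hmk : m + (n - m) = n := by omega
  set e' : Fin m ⊕ Fin (n - m) ≃ Fin n := finSumFinEquiv.trans (finCongr hmk) with he'
  set B : Matrix (Fin m ⊕ Fin (n - m)) (Fin m ⊕ Fin (n - m)) F :=
    Matrix.fromBlocks (C : Matrix (Fin m) (Fin m) F) 0 0 1 with hB
  set X : Matrix (Fin n) (Fin n) F := Matrix.reindexAlgEquiv F F e' B with hX
  have hXdet : X.det = 1 := by
    rw [hX, Matrix.coe_reindexAlgEquiv, Matrix.det_reindex_self, hB, Matrix.det_fromBlocks_zero₂₁,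
      hdetC, Matrix.det_one, mul_one]
  have hXpow : ∀ j : ℕ, X ^ j = Matrix.reindexAlgEquiv F F e'
      (Matrix.fromBlocks ((C : Matrix (Fin m) (Fin m) F) ^ j) 0 0 1) := by
    intro j
    rw [hX, ← map_pow, hB, td_fromBlocks_pow]
  have hXr : X ^ r = 1 := by
    rw [hXpow r, hCrM, Matrix.fromBlocks_one, map_one]
  have hX1 : X ≠ 1 := by
    intro h
    have h1 : B = 1 := by
      apply (Matrix.reindexAlgEquiv F F e').injective
      rw [← hX, h, map_one]
    rw [hB, ← Matrix.fromBlocks_one, Matrix.fromBlocks_inj] at h1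
    exact hC1 (Units.ext h1.1)
  have hXrk : (X - 1).rank ≤ m := by
    have h1 : X - 1 = Matrix.reindexAlgEquiv F F e'
        (Matrix.fromBlocks ((C : Matrix (Fin m) (Fin m) F) - 1) 0 0 0) := by
      have h2 : (1 : Matrix (Fin n) (Fin n) F) = Matrix.reindexAlgEquiv F F e' 1 := (map_one _).symm
      rw [h2, hX, ← map_sub, hB]
      congr 1
      ext i j
      rcases i with i | i <;> rcases j with j | j <;> simp [Matrix.one_apply]
    rw [h1, Matrix.coe_reindexAlgEquiv, Matrix.rank_reindex]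
    exact td_fromBlocks_rank _
  set x : GL (Fin n) F := tdGL X (by rw [hXdet]; exact one_ne_zero) with hx
  have hxr : ((x ^ r : GL (Fin n) F) : Matrix (Fin n) (Fin n) F) = 1 := by
    rw [hx, tdGL_pow_coe, hXr]
  have hn1 : 1 ≤ n := by nlinarith
  have hns : ∀ z : F, (x : Matrix (Fin n) (Fin n) F) ≠ z • (1 : Matrix (Fin n) (Fin n) F) := by
    intro z hz
    rw [hx, tdGL_coe] at hz
    have hzr : z ^ r = 1 := by
      have h1 := hXr
      rw [hz, smul_pow, one_pow] at h1
      have := congrFun (congrFun h1 ⟨0, hn1⟩) ⟨0, hn1⟩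
      simpa using this
    have hz0 : z ≠ 0 := by
      rintro rfl
      rw [zero_pow hrp.ne_zero] at hzr
      exact zero_ne_one hzr
    have hzq : z ^ (Fintype.card F - 1) = 1 := FiniteField.pow_card_sub_one_eq_one z hz0
    have := pow_gcd_eq_one.mpr ⟨hzr, hzq⟩
    rw [hcop.gcd_eq_one, pow_one] at this
    rw [this, one_smul] at hz
    exact hX1 hz
  have hconj := hall x ((td_mem_sl x).mpr (by rw [hx, tdGL_coe, hXdet]))
    ⟨1, by rw [hxr, one_smul]⟩ hns
  have hS : TdShape a b x := by
    by_cases hmb : m < b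
    · apply td_shape_of_small_rank (by omega) e P x hconj 1
      rw [one_smul, hx, tdGL_coe]
      omega
    · exact td_shape_of_large_order (by omega) (by omega) e P x hconj r hrq hr1 (by omega) hxr
  exact td_shape_contra ha x hS r hrq hxr (by rw [hx, tdGL_coe]; exact hX1)
    (by rw [hx, tdGL_coe]; exact hXrk)

end Cfsg.Agent.Lib.Helper22.TD
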