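import Mathlib

/-!
# S5979: fixed point counting for a matrix of prime order over a finite field

`td_count`: `h ^ r = 1` (`r` prime) over a field with `q` elements: `q ^ m ≡ q ^ (m - rank (h - 1)) [MOD r]`.
`td_dvd_pow_rank`: if moreover `r ∤ q` then `r ∣ q ^ rank (h - 1) - 1`.
-/

set_option autoImplicit false
set_option linter.unusedVariables false
set_option linter.unusedSectionVars false

namespace Cfsg.Agent.Lib.Helper22.TD

open Matrix
open Classical

variable {F : Type*} [Field F] [Fintype F]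

/-- the kernel of `N` (as a set of vectors) has `q ^ (m - rank N)` elements. -/
theorem td_card_ker {m : ℕ} (N : Matrix (Fin m) (Fin m) F) :
    Fintype.card {v : Fin m → F // N *ᵥ v = 0} = Fintype.card F ^ (m - N.rank) := by
  classical
  have h1 : Fintype.card {v : Fin m → F // N *ᵥ v = 0} = Fintype.card (LinearMap.ker N.mulVecLin) := by
    apply Fintype.card_congr
    exact Equiv.subtypeEquivRight (fun v => by rw [LinearMap.mem_ker, Matrix.mulVecLin_apply])
  rw [h1, Module.card_eq_pow_finrank (K := F) (V := LinearMap.ker N.mulVecLin)]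
  congr 1
  have h2 := LinearMap.finrank_range_add_finrank_ker N.mulVecLin
  rw [Module.finrank_fin_fun] at h2
  rw [Matrix.rank]
  omega

theorem td_count {m : ℕ} (h : Matrix (Fin m) (Fin m) F) (r : ℕ) [Fact r.Prime] (hr : h ^ r = 1) :
    Fintype.card F ^ m ≡ Fintype.card F ^ (m - (h - 1).rank) [MOD r] := by
  classical
  let f : Function.End (Fin m → F) := fun v => h *ᵥ v
  have hpow : ∀ k : ℕ, ∀ v, (f ^ k) v = (h ^ k) *ᵥ v := by
    intro k
    induction k with
    | zero => intro v; rw [pow_zero, pow_zero, Matrix.one_mulVec]; rfl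
    | succ k ih =>
      intro v
      rw [pow_succ', pow_succ']
      show f ((f ^ k) v) = _
      rw [ih v]
      show h *ᵥ ((h ^ k) *ᵥ v) = _
      rw [Matrix.mulVec_mulVec]
  have hf : f ^ r ^ 1 = 1 := by
    rw [pow_one]
    funext v
    rw [hpow r v, hr, Matrix.one_mulVec]
    rfl
  have h1 := Equiv.Perm.card_fixedPoints_modEq (p := r) (n := 1) hf
  have h2 : Fintype.card (Function.fixedPoints f) = Fintype.card {v : Fin m → F // (h - 1) *ᵥ v = 0} := by
    apply Fintype.card_congr
    apply Equiv.subtypeEquivRight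
    intro v
    show h *ᵥ v = v ↔ _
    rw [Matrix.sub_mulVec, Matrix.one_mulVec, sub_eq_zero]
  rw [h2, td_card_ker, Fintype.card_fun, Fintype.card_fin] at h1
  exact h1

/-- `r ∣ q ^ rank (h - 1) - 1` when `h ^ r = 1` and `r ∤ q`. -/
theorem td_dvd_pow_rank {m : ℕ} (h : Matrix (Fin m) (Fin m) F) (r : ℕ) [Fact r.Prime] (hr : h ^ r = 1)
    (hq : ¬ r ∣ Fintype.card F) : r ∣ Fintype.card F ^ (h - 1).rank - 1 := by
  have hp : r.Prime := Fact.out
  have h1 := td_count h r hr
  set q := Fintype.card F with hqdef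
  set ρ := (h - 1).rank with hρ
  have hρm : ρ ≤ m := by
    rw [hρ]
    exact (Matrix.rank_le_width _)
  have h2 : q ^ m = q ^ (m - ρ) * q ^ ρ := by
    rw [← pow_add]
    congr 1
    omega
  rw [h2] at h1
  have hcop : Nat.Coprime r (q ^ (m - ρ)) :=
    Nat.Coprime.pow_right _ ((Nat.Prime.coprime_iff_not_dvd hp).mpr hq)
  have h3 : q ^ (m - ρ) * q ^ ρ ≡ q ^ (m - ρ) * 1 [MOD r] := by
    rw [mul_one]
    exact h1
  have h4 : q ^ ρ ≡ 1 [MOD r] := Nat.ModEq.cancel_left_of_coprime hcop h3
  exact (Nat.modEq_iff_dvd' (Nat.one_le_pow _ _ (Fintype.card_pos))).mp h4.symm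

/-- the order of `q` modulo `r` divides `rank (h - 1)` when `h ^ r = 1`, `r ∤ q`. -/
theorem td_order_dvd_rank {m : ℕ} (h : Matrix (Fin m) (Fin m) F) (r : ℕ) [Fact r.Prime] (hr : h ^ r = 1)
    (hq : ¬ r ∣ Fintype.card F) :
    orderOf ((Fintype.card F : ℕ) : ZMod r) ∣ (h - 1).rank := by
  rw [orderOf_dvd_iff_pow_eq_one]
  have h0 := td_dvd_pow_rank h r hr hq
  have h1 : ((Fintype.card F ^ (h - 1).rank : ℕ) : ZMod r) = ((1 : ℕ) : ZMod r) := by
    rw [ZMod.natCast_eq_natCast_iff]
    exact ((Nat.modEq_iff_dvd' (Nat.one_le_pow _ _ (Fintype.card_pos))).mpr h0).symm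
  push_cast at h1
  exact h1

/-- a matrix of rank `0` is zero. -/
theorem td_eq_zero_of_rank {ι : Type*} [Fintype ι] [DecidableEq ι] {K : Type*} [Field K]
    (N : Matrix ι ι K) (h : N.rank = 0) : N = 0 := by
  rw [Matrix.rank, Submodule.finrank_eq_zero, LinearMap.range_eq_bot] at h
  apply Matrix.toLin'.injective
  rw [map_zero]
  apply LinearMap.ext
  intro v
  have := congrArg (fun f : (ι → K) →ₗ[K] (ι → K) => f v) h
  simpa [Matrix.toLin'_apply] using this

end Cfsg.Agent.Lib.Helper22.TD
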