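import Mathlib
import Cfsg.Prelude.Def_GeometricClasses

/-!
# S5979: transfer between `tensorProductSubgroup a b e P` and the Kronecker subgroup

`td_transfer`: `x` has an `SL`-conjugate in `tensorProductSubgroup a b e P` iff `glReindex e x` is conjugate to an element
of `kroneckerSubgroup a b F` by a matrix with the determinant of `P`.
-/

set_option autoImplicit false
set_option linter.unusedVariables false
set_option linter.unusedSectionVars false

namespace Cfsg.Agent.Lib.Helper22.TD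

open Matrix

variable {F : Type*} [Field F] {ι κ : Type} [Fintype ι] [DecidableEq ι] [Fintype κ] [DecidableEq κ]

theorem td_glReindex_coe (e : κ ≃ ι) (g : GL κ F) :
    ((Cfsg.Geo.glReindex e g : GL ι F) : Matrix ι ι F) = Matrix.reindex e e (g : Matrix κ κ F) := rfl

theorem td_glReindex_symm_apply (e : κ ≃ ι) (g : GL κ F) :
    Cfsg.Geo.glReindex e.symm (Cfsg.Geo.glReindex e g) = g := by
  apply Units.ext
  rw [td_glReindex_coe, td_glReindex_coe]
  ext i j
  simp

theorem td_glReindex_apply_symm (e : κ ≃ ι) (g : GL ι F) :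
    Cfsg.Geo.glReindex e (Cfsg.Geo.glReindex e.symm g) = g := by
  apply Units.ext
  rw [td_glReindex_coe, td_glReindex_coe]
  ext i j
  simp

theorem td_glReindex_det (e : κ ≃ ι) (g : GL κ F) :
    ((Cfsg.Geo.glReindex e g : GL ι F) : Matrix ι ι F).det = (g : Matrix κ κ F).det := by
  rw [td_glReindex_coe, Matrix.det_reindex_self]

theorem td_mem_sl (g : GL ι F) :
    g ∈ Cfsg.Geo.specialLinear ι F ↔ (g : Matrix ι ι F).det = 1 := by
  unfold Cfsg.Geo.specialLinear
  rw [MonoidHom.mem_ker]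
  constructor
  · intro h
    have := congrArg (fun u : Fˣ => (u : F)) h
    simpa using this
  · intro h
    apply Units.ext
    simpa using h

theorem td_mem_tps {a b : ℕ} (e : ι ≃ Fin a × Fin b) (P y : GL ι F) :
    y ∈ Cfsg.Geo.tensorProductSubgroup a b e P ↔
      ∃ k ∈ Cfsg.Geo.kroneckerSubgroup a b F, y = P * Cfsg.Geo.glReindex e.symm k * P⁻¹ := by
  unfold Cfsg.Geo.tensorProductSubgroup
  constructor
  · rintro ⟨y', ⟨k, hk, rfl⟩, rfl⟩
    exact ⟨k, hk, rfl⟩
  · rintro ⟨k, hk, rfl⟩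
    exact ⟨_, ⟨k, hk, rfl⟩, rfl⟩

theorem td_transfer {a b : ℕ} (e : ι ≃ Fin a × Fin b) (P x : GL ι F) :
    (∃ g ∈ Cfsg.Geo.specialLinear ι F, g⁻¹ * x * g ∈ Cfsg.Geo.tensorProductSubgroup a b e P) ↔
      ∃ k ∈ Cfsg.Geo.kroneckerSubgroup a b F, ∃ Q : GL (Fin a × Fin b) F,
        (Q : Matrix (Fin a × Fin b) (Fin a × Fin b) F).det = (P : Matrix ι ι F).det ∧
        Cfsg.Geo.glReindex e x = Q * k * Q⁻¹ := by
  constructor
  · rintro ⟨g, hg, hmem⟩
    obtain ⟨k, hk, hy⟩ := (td_mem_tps e P _).mp hmem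
    refine ⟨k, hk, Cfsg.Geo.glReindex e (g * P), ?_, ?_⟩
    · rw [td_glReindex_det, Units.val_mul, Matrix.det_mul, (td_mem_sl g).mp hg, one_mul]
    · have hx : x = (g * P) * Cfsg.Geo.glReindex e.symm k * (g * P)⁻¹ := by
        have : x = g * (g⁻¹ * x * g) * g⁻¹ := by group
        rw [this, hy]
        group
      rw [hx, map_mul, map_mul, td_glReindex_apply_symm, map_inv]
  · rintro ⟨k, hk, Q, hdet, hx⟩
    refine ⟨Cfsg.Geo.glReindex e.symm Q * P⁻¹, ?_, ?_⟩
    · rw [td_mem_sl, Units.val_mul, Matrix.det_mul, td_glReindex_det, hdet,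
        Matrix.coe_units_inv, Matrix.det_nonsing_inv, Ring.inverse_eq_inv']
      have hP : (P : Matrix ι ι F).det ≠ 0 := by
        have := (Matrix.isUnit_iff_isUnit_det _).mp (Units.isUnit P)
        exact this.ne_zero
      exact mul_inv_cancel₀ hP
    · rw [td_mem_tps]
      refine ⟨k, hk, ?_⟩
      have hx' : x = Cfsg.Geo.glReindex e.symm Q * Cfsg.Geo.glReindex e.symm k *
          (Cfsg.Geo.glReindex e.symm Q)⁻¹ := by
        rw [← td_glReindex_symm_apply e x, hx, map_mul, map_mul, map_inv]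
      rw [hx']
      group

end Cfsg.Agent.Lib.Helper22.TD
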