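import Cfsg.Agent.Lib.Helper22.TD.Kron
import Cfsg.Agent.Lib.Helper22.TD.Count
import Cfsg.Agent.Lib.Helper22.TD.Transfer

/-!
# S5979: the shape of a Kronecker conjugate of an element with small support

If `x` has an `SL`-conjugate in the tensor product subgroup and either `rank (x - l) < b` for some `l`, or `x ^ r = 1` with
`ord_r(q) > a`, then the conjugate is `1_a ⊗ h`, so `rank (x - l) = a * rank (h - l)` for all `l`.
-/

set_option autoImplicit false
set_option linter.unusedVariables false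
set_option linter.unusedSectionVars false

namespace Cfsg.Agent.Lib.Helper22.TD

open Matrix
open scoped Kronecker
open Cfsg.Agent.Lib.helper7.TP

variable {F : Type*} [Field F] {ι κ : Type} [Fintype ι] [DecidableEq ι] [Fintype κ] [DecidableEq κ]

theorem td_det_ne_zero (Q : GL κ F) : (Q : Matrix κ κ F).det ≠ 0 :=
  ((Matrix.isUnit_iff_isUnit_det _).mp (Units.isUnit Q)).ne_zero

/-- conjugation does not change `rank (· - l)`. -/
theorem td_rank_conj (Q k : GL κ F) (l : F) :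
    (((Q * k * Q⁻¹ : GL κ F) : Matrix κ κ F) - l • (1 : Matrix κ κ F)).rank =
      ((k : Matrix κ κ F) - l • (1 : Matrix κ κ F)).rank := by
  have h1 : ((Q * k * Q⁻¹ : GL κ F) : Matrix κ κ F) - l • (1 : Matrix κ κ F) =
      (Q : Matrix κ κ F) * ((k : Matrix κ κ F) - l • (1 : Matrix κ κ F)) *
        ((Q⁻¹ : GL κ F) : Matrix κ κ F) := by
    have hQ : (Q : Matrix κ κ F) * ((Q⁻¹ : GL κ F) : Matrix κ κ F) = 1 := by
      rw [← Units.val_mul, mul_inv_cancel, Units.val_one]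
    rw [Units.val_mul, Units.val_mul, Matrix.mul_sub, Matrix.sub_mul, Matrix.mul_smul, Matrix.mul_one,
      Matrix.smul_mul, hQ]
  rw [h1, Matrix.rank_mul_eq_left_of_det_ne_zero _ _ (td_det_ne_zero Q⁻¹),
    Matrix.rank_mul_eq_right_of_det_ne_zero _ _ (td_det_ne_zero Q)]

/-- reindexing does not change `rank (· - l)`. -/
theorem td_rank_reindex (e : κ ≃ ι) (x : GL κ F) (l : F) :
    (((Cfsg.Geo.glReindex e x : GL ι F) : Matrix ι ι F) - l • (1 : Matrix ι ι F)).rank =
      ((x : Matrix κ κ F) - l • (1 : Matrix κ κ F)).rank := by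
  have h1 : ((Cfsg.Geo.glReindex e x : GL ι F) : Matrix ι ι F) - l • (1 : Matrix ι ι F) =
      Matrix.reindex e e ((x : Matrix κ κ F) - l • (1 : Matrix κ κ F)) := by
    rw [td_glReindex_coe]
    ext i j
    simp [Matrix.one_apply]
  rw [h1, Matrix.rank_reindex]

/-- the rank invariant of a conjugate. -/
theorem td_inv_rank (e : κ ≃ ι) (x : GL κ F) (Q k : GL ι F)
    (h : Cfsg.Geo.glReindex e x = Q * k * Q⁻¹) (l : F) :
    ((x : Matrix κ κ F) - l • (1 : Matrix κ κ F)).rank =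
      ((k : Matrix ι ι F) - l • (1 : Matrix ι ι F)).rank := by
  rw [← td_rank_reindex e x l, h, td_rank_conj]

/-- scalar powers pass to a conjugate. -/
theorem td_inv_pow (e : κ ≃ ι) (x : GL κ F) (Q k : GL ι F)
    (h : Cfsg.Geo.glReindex e x = Q * k * Q⁻¹) (m : ℕ) (z : F)
    (hx : ((x ^ m : GL κ F) : Matrix κ κ F) = z • (1 : Matrix κ κ F)) :
    (k : Matrix ι ι F) ^ m = z • (1 : Matrix ι ι F) := by
  have hk : k = Q⁻¹ * Cfsg.Geo.glReindex e x * Q := by
    rw [h]; group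
  have hkm : k ^ m = Q⁻¹ * Cfsg.Geo.glReindex e (x ^ m) * Q := by
    rw [hk, map_pow]
    have : ∀ (A B : GL ι F) (m : ℕ), (A⁻¹ * B * A) ^ m = A⁻¹ * B ^ m * A := by
      intro A B m
      induction m with
      | zero => simp
      | succ m ih => rw [pow_succ, ih, pow_succ]; group
    exact this _ _ _
  have h2 : ((Cfsg.Geo.glReindex e (x ^ m) : GL ι F) : Matrix ι ι F) = z • (1 : Matrix ι ι F) := by
    rw [td_glReindex_coe, hx]
    ext i j
    simp [Matrix.one_apply]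
  have h3 := congrArg (fun g : GL ι F => (g : Matrix ι ι F)) hkm
  simp only [Units.val_pow_eq_pow_val, Units.val_mul] at h3
  rw [h3, h2, Matrix.mul_smul, Matrix.mul_one, Matrix.smul_mul, ← Units.val_mul, inv_mul_cancel,
    Units.val_one]

/-- a scalar conjugate means a scalar element. -/
theorem td_inv_scalar (e : κ ≃ ι) (x : GL κ F) (Q k : GL ι F)
    (h : Cfsg.Geo.glReindex e x = Q * k * Q⁻¹) (z : F)
    (hk : (k : Matrix ι ι F) = z • (1 : Matrix ι ι F)) :
    (x : Matrix κ κ F) = z • (1 : Matrix κ κ F) := by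
  have h1 : ((Cfsg.Geo.glReindex e x : GL ι F) : Matrix ι ι F) = z • (1 : Matrix ι ι F) := by
    rw [h, Units.val_mul, Units.val_mul, hk, Matrix.mul_smul, Matrix.mul_one, Matrix.smul_mul,
      ← Units.val_mul, mul_inv_cancel, Units.val_one]
  rw [td_glReindex_coe] at h1
  ext i j
  have := congrFun (congrFun h1 (e i)) (e j)
  simpa [Matrix.one_apply] using this

variable {a b n : ℕ}

/-- the conclusion shared by the two routes: the Kronecker conjugate is `1_a ⊗ h`. -/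
def TdShape (a b : ℕ) (x : GL (Fin n) F) : Prop :=
  ∃ h : Matrix (Fin b) (Fin b) F,
    (∀ l : F, ((x : Matrix (Fin n) (Fin n) F) - l • (1 : Matrix (Fin n) (Fin n) F)).rank =
      a * (h - l • (1 : Matrix (Fin b) (Fin b) F)).rank) ∧
    ∀ (m : ℕ) (z : F), ((x ^ m : GL (Fin n) F) : Matrix (Fin n) (Fin n) F) =
      z • (1 : Matrix (Fin n) (Fin n) F) → h ^ m = z • (1 : Matrix (Fin b) (Fin b) F)

theorem td_shape_core (ha : 1 ≤ a) (e : Fin n ≃ Fin a × Fin b) (x : GL (Fin n) F)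
    (Q k : GL (Fin a × Fin b) F) (hx : Cfsg.Geo.glReindex e x = Q * k * Q⁻¹)
    (h : Matrix (Fin b) (Fin b) F)
    (hk : (k : Matrix (Fin a × Fin b) (Fin a × Fin b) F) = (1 : Matrix (Fin a) (Fin a) F) ⊗ₖ h) :
    TdShape a b x := by
  refine ⟨h, fun l => ?_, fun m z hm => ?_⟩
  · rw [td_inv_rank e x Q k hx l, hk, td_one_kron_sub, td_rank_one_kron]
  · have h1 := td_inv_pow e x Q k hx m z hm
    rw [hk, td_one_kron_pow] at h1
    apply td_one_kron_inj ha
    rw [h1, Matrix.kronecker_smul, Matrix.one_kronecker_one]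

theorem td_gl_inj (β : GL (Fin b) F) (w : Fin b → F)
    (hw : (β : Matrix (Fin b) (Fin b) F) *ᵥ w = 0) : w = 0 := by
  have h1 : ((β⁻¹ : GL (Fin b) F) : Matrix (Fin b) (Fin b) F) *ᵥ
      ((β : Matrix (Fin b) (Fin b) F) *ᵥ w) = w := by
    rw [Matrix.mulVec_mulVec, ← Units.val_mul, inv_mul_cancel, Units.val_one, Matrix.one_mulVec]
  rw [← h1, hw, Matrix.mulVec_zero]

/-- first route: some `rank (x - l₀) < b`. -/
theorem td_shape_of_small_rank (ha : 1 ≤ a) (e : Fin n ≃ Fin a × Fin b) (P x : GL (Fin n) F)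
    (hconj : ∃ g ∈ Cfsg.Geo.specialLinear (Fin n) F,
      g⁻¹ * x * g ∈ Cfsg.Geo.tensorProductSubgroup a b e P)
    (l₀ : F)
    (h0 : ((x : Matrix (Fin n) (Fin n) F) - l₀ • (1 : Matrix (Fin n) (Fin n) F)).rank < b) :
    TdShape a b x := by
  obtain ⟨k, ⟨α, β, hk⟩, Q, -, hx⟩ := (td_transfer e P x).mp hconj
  rw [td_inv_rank e x Q k hx l₀, hk] at h0
  obtain ⟨c, hc⟩ := td_left_scalar ha (α : Matrix (Fin a) (Fin a) F) (β : Matrix (Fin b) (Fin b) F)
    (td_gl_inj β) l₀ h0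
  apply td_shape_core ha e x Q k hx (c • (β : Matrix (Fin b) (Fin b) F))
  rw [hk, hc, td_smul_one_kron]

/-- second route: `x ^ r = 1` and the order of `q` modulo `r` is larger than `a`. -/
theorem td_shape_of_large_order [Fintype F] (ha : 1 ≤ a) (hb : 1 ≤ b) (e : Fin n ≃ Fin a × Fin b)
    (P x : GL (Fin n) F)
    (hconj : ∃ g ∈ Cfsg.Geo.specialLinear (Fin n) F,
      g⁻¹ * x * g ∈ Cfsg.Geo.tensorProductSubgroup a b e P)
    (r : ℕ) [Fact r.Prime] (hrq : ¬ r ∣ Fintype.card F) (hr1 : ¬ r ∣ Fintype.card F - 1)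
    (hi : a < orderOf ((Fintype.card F : ℕ) : ZMod r))
    (hxr : ((x ^ r : GL (Fin n) F) : Matrix (Fin n) (Fin n) F) = 1) :
    TdShape a b x := by
  have hrp : r.Prime := Fact.out
  obtain ⟨k, ⟨α, β, hk⟩, Q, -, hx⟩ := (td_transfer e P x).mp hconj
  have hkr : (k : Matrix (Fin a × Fin b) (Fin a × Fin b) F) ^ r =
      (1 : F) • (1 : Matrix (Fin a × Fin b) (Fin a × Fin b) F) :=
    td_inv_pow e x Q k hx r 1 (by rw [hxr, one_smul])
  have hkr' := hkr
  rw [hk, td_kron_pow] at hkr'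
  obtain ⟨c, hc0, hαr, -⟩ := td_kron_eq_smul ha hb _ _ 1 one_ne_zero hkr'
  -- α ^ (Fintype.card F - 1) has order dividing r, hence is 1
  have hα1 : ((α : Matrix (Fin a) (Fin a) F) ^ (Fintype.card F - 1)) ^ r = 1 := by
    rw [← pow_mul, mul_comm, pow_mul, hαr, smul_pow, one_pow, FiniteField.pow_card_sub_one_eq_one c hc0,
      one_smul]
  have hdvd := td_order_dvd_rank ((α : Matrix (Fin a) (Fin a) F) ^ (Fintype.card F - 1)) r hα1 hrq
  have hle : ((α : Matrix (Fin a) (Fin a) F) ^ (Fintype.card F - 1) - 1).rank ≤ a := Matrix.rank_le_width _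
  have hrk0 : ((α : Matrix (Fin a) (Fin a) F) ^ (Fintype.card F - 1) - 1).rank = 0 := by
    by_contra hne
    have := Nat.le_of_dvd (Nat.pos_of_ne_zero hne) hdvd
    omega
  have hαq : (α : Matrix (Fin a) (Fin a) F) ^ (Fintype.card F - 1) = 1 := by
    have := td_eq_zero_of_rank _ hrk0
    exact sub_eq_zero.mp this
  -- Bezout
  have hcop : Nat.Coprime (Fintype.card F - 1) r := by
    rw [Nat.coprime_comm]
    exact (Nat.Prime.coprime_iff_not_dvd hrp).mpr hr1
  obtain ⟨s, -, hs⟩ := Nat.exists_mul_mod_eq_one_of_coprime hcop hrp.one_lt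
  have hdiv := Nat.div_add_mod ((Fintype.card F - 1) * s) r
  rw [hs] at hdiv
  have hk1 : (k : Matrix (Fin a × Fin b) (Fin a × Fin b) F) ^ ((Fintype.card F - 1) * s) =
      (k : Matrix (Fin a × Fin b) (Fin a × Fin b) F) := by
    rw [← hdiv, pow_add, pow_mul, hkr, one_smul, one_pow, one_mul, pow_one]
  apply td_shape_core ha e x Q k hx ((β : Matrix (Fin b) (Fin b) F) ^ ((Fintype.card F - 1) * s))
  rw [← hk1, hk, td_kron_pow, pow_mul (α : Matrix (Fin a) (Fin a) F), hαq, one_pow]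

/-- the final contradiction: `x ^ r = 1`, `x ≠ 1`, `rank (x - 1) ≤ ord_r(q)`, shape `1_a ⊗ h`, `a ≥ 2`. -/
theorem td_shape_contra [Fintype F] (ha : 2 ≤ a) (x : GL (Fin n) F) (hS : TdShape a b x)
    (r : ℕ) [Fact r.Prime] (hrq : ¬ r ∣ Fintype.card F)
    (hxr : ((x ^ r : GL (Fin n) F) : Matrix (Fin n) (Fin n) F) = 1)
    (hx1 : (x : Matrix (Fin n) (Fin n) F) ≠ 1)
    (hrk : ((x : Matrix (Fin n) (Fin n) F) - 1).rank ≤ orderOf ((Fintype.card F : ℕ) : ZMod r)) :
    False := by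
  obtain ⟨h, hrank, hpow⟩ := hS
  have hhr : h ^ r = 1 := by
    have := hpow r 1 (by rw [hxr, one_smul])
    rwa [one_smul] at this
  have h1 := hrank 1
  rw [one_smul, one_smul] at h1
  have hdvd := td_order_dvd_rank h r hhr hrq
  have hne : (h - 1).rank ≠ 0 := by
    intro h0
    rw [h0, mul_zero] at h1
    exact hx1 (sub_eq_zero.mp (td_eq_zero_of_rank _ h1))
  have := Nat.le_of_dvd (Nat.pos_of_ne_zero hne) hdvd
  have h2 : 2 * (h - 1).rank ≤ a * (h - 1).rank := Nat.mul_le_mul_right _ ha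
  omega

end Cfsg.Agent.Lib.Helper22.TD
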