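import Cfsg.Agent.Lib.Helper22.TD.Elts

/-!
# S5979: the three diagonal derangements
-/

set_option autoImplicit false
set_option linter.unusedVariables false
set_option linter.unusedSectionVars false
set_option linter.unusedSimpArgs false

namespace Cfsg.Agent.Lib.Helper22.TD

open Matrix
open scoped Kronecker
open Classical

variable {F : Type*} [Field F] {a b n : ℕ}

theorem tdD_filter_le_one (u v : F) (i₀ i₁ : Fin n) :
    (Finset.univ.filter (fun i => tdD u v u i₀ i₁ i ≠ u)).card ≤ 1 := by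
  have hsub : Finset.univ.filter (fun i => tdD u v u i₀ i₁ i ≠ u) ⊆ {i₀} := by
    intro i hi
    rw [Finset.mem_filter] at hi
    by_contra hni
    rw [Finset.mem_singleton] at hni
    by_cases h1 : i = i₁
    · subst h1
      exact hi.2 (tdD_i₁ u v u i₀ i)
    · exact hi.2 (tdD_other u v u i₀ i₁ i hni h1)
  exact le_trans (Finset.card_le_card hsub) (by simp)

/-- `r` odd, `r ∣ q - 1`: `diag(ω, ω⁻¹, 1, …, 1)`. -/
theorem td_case_omega (ha : 2 ≤ a) (hab : a < b) (hn : n = a * b)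
    (e : Fin n ≃ Fin a × Fin b) (P : GL (Fin n) F) (r : ℕ) (ω : F) (hω0 : ω ≠ 0) (hω : ω ^ r = 1) (hω1 : ω ≠ 1)
    (hω2 : ω ^ 2 ≠ 1) (hall : TdAll a b e P r) : False := by
  have hn6 : 6 ≤ n := by nlinarith
  set i₀ : Fin n := ⟨0, by omega⟩ with hi₀
  set i₁ : Fin n := ⟨1, by omega⟩ with hi₁
  set i₂ : Fin n := ⟨2, by omega⟩ with hi₂
  have h01 : i₀ ≠ i₁ := by
    intro h; have := congrArg Fin.val h; simp [hi₀, hi₁] at this
  have h20 : i₂ ≠ i₀ := by
    intro h; have := congrArg Fin.val h; simp [hi₀, hi₂] at this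
  have h21 : i₂ ≠ i₁ := by
    intro h; have := congrArg Fin.val h; simp [hi₁, hi₂] at this
  set d : Fin n → F := tdD 1 ω ω⁻¹ i₀ i₁ with hd
  have hd0 : ∀ i, d i ≠ 0 := tdD_ne_zero _ _ _ _ _ one_ne_zero hω0 (inv_ne_zero hω0)
  set x : GL (Fin n) F := tdGL (Matrix.diagonal d) (td_diag_det_ne d hd0) with hx
  have hdet : (x : Matrix (Fin n) (Fin n) F).det = 1 := by
    rw [hx, tdGL_coe, Matrix.det_diagonal, hd, tdD_prod _ _ _ _ _ h01, one_pow, mul_one,
      inv_mul_cancel₀ hω0]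
  have hpow : ∀ i, d i ^ r = 1 := by
    intro i
    by_cases h1 : i = i₁
    · rw [h1, hd, tdD_i₁, inv_pow, hω, inv_one]
    by_cases h0 : i = i₀
    · rw [h0, hd, tdD_i₀ _ _ _ _ _ h01, hω]
    rw [hd, tdD_other _ _ _ _ _ _ h0 h1, one_pow]
  have hxr : ((x ^ r : GL (Fin n) F) : Matrix (Fin n) (Fin n) F) =
      (1 : F) • (1 : Matrix (Fin n) (Fin n) F) := by
    rw [hx, tdGL_pow_coe, Matrix.diagonal_pow, one_smul, ← Matrix.diagonal_one]
    congr 1
    funext i
    exact hpow i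
  have hns : ∀ z : F, (x : Matrix (Fin n) (Fin n) F) ≠ z • (1 : Matrix (Fin n) (Fin n) F) := by
    intro z
    rw [hx, tdGL_coe]
    apply td_diag_not_scalar d i₀ i₂
    rw [hd, tdD_i₀ _ _ _ _ _ h01, tdD_other _ _ _ _ _ _ h20 h21]
    exact hω1
  have hconj := hall x ((td_mem_sl x).mpr hdet) ⟨1, hxr⟩ hns
  apply td_contra_ndvd (by omega) e P x hconj 1 _ ω
  · -- rank (x - ω) = n - 1
    rw [hx, tdGL_coe, td_diag_rank]
    have hfil : Finset.univ.filter (fun i => d i ≠ ω) = Finset.univ.erase i₀ := by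
      ext i
      rw [Finset.mem_filter, Finset.mem_erase]
      constructor
      · rintro ⟨-, hi⟩
        refine ⟨?_, Finset.mem_univ _⟩
        rintro rfl
        exact hi (by rw [hd, tdD_i₀ _ _ _ _ _ h01])
      · rintro ⟨hi, -⟩
        refine ⟨Finset.mem_univ _, ?_⟩
        by_cases h1 : i = i₁
        · rw [h1, hd, tdD_i₁]
          intro h
          apply hω2
          rw [sq]
          nth_rewrite 1 [← h]
          exact inv_mul_cancel₀ hω0
        · rw [hd, tdD_other _ _ _ _ _ _ hi h1]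
          exact fun h => hω1 h.symm
    rw [hfil, Finset.card_erase_of_mem (Finset.mem_univ _), Finset.card_univ, Fintype.card_fin]
    intro hdvd
    have h1 : a ∣ n := ⟨b, hn⟩
    have h2 : a ∣ n - (n - 1) := Nat.dvd_sub h1 hdvd
    have h3 : n - (n - 1) = 1 := by omega
    rw [h3] at h2
    have := Nat.le_of_dvd one_pos h2
    omega
  · rw [hx, tdGL_coe, one_smul, ← one_smul F (1 : Matrix (Fin n) (Fin n) F), td_diag_rank]
    have := tdD_filter_le (1 : F) ω ω⁻¹ i₀ i₁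
    rw [← hd] at this
    omega

/-- `r = 2`, `q` odd, `a ≥ 3`: `diag(-1, -1, 1, …, 1)`. -/
theorem td_case_minus_one (ha : 3 ≤ a) (hab : a < b) (hn : n = a * b)
    (e : Fin n ≃ Fin a × Fin b) (P : GL (Fin n) F) (h2 : (-1 : F) ≠ 1) (hall : TdAll a b e P 2) :
    False := by
  have hn6 : 6 ≤ n := by nlinarith
  set i₀ : Fin n := ⟨0, by omega⟩ with hi₀
  set i₁ : Fin n := ⟨1, by omega⟩ with hi₁
  set i₂ : Fin n := ⟨2, by omega⟩ with hi₂
  have h01 : i₀ ≠ i₁ := by
    intro h; have := congrArg Fin.val h; simp [hi₀, hi₁] at this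
  have h20 : i₂ ≠ i₀ := by
    intro h; have := congrArg Fin.val h; simp [hi₀, hi₂] at this
  have h21 : i₂ ≠ i₁ := by
    intro h; have := congrArg Fin.val h; simp [hi₁, hi₂] at this
  set d : Fin n → F := tdD 1 (-1) (-1) i₀ i₁ with hd
  have hm1 : (-1 : F) ≠ 0 := neg_ne_zero.mpr one_ne_zero
  have hd0 : ∀ i, d i ≠ 0 := tdD_ne_zero _ _ _ _ _ one_ne_zero hm1 hm1
  set x : GL (Fin n) F := tdGL (Matrix.diagonal d) (td_diag_det_ne d hd0) with hx
  have hdet : (x : Matrix (Fin n) (Fin n) F).det = 1 := by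
    rw [hx, tdGL_coe, Matrix.det_diagonal, hd, tdD_prod _ _ _ _ _ h01, one_pow, mul_one]
    ring
  have hpow : ∀ i, d i ^ 2 = 1 := by
    intro i
    by_cases h1 : i = i₁
    · rw [h1, hd, tdD_i₁]; ring
    by_cases h0 : i = i₀
    · rw [h0, hd, tdD_i₀ _ _ _ _ _ h01]; ring
    rw [hd, tdD_other _ _ _ _ _ _ h0 h1, one_pow]
  have hxr : ((x ^ 2 : GL (Fin n) F) : Matrix (Fin n) (Fin n) F) =
      (1 : F) • (1 : Matrix (Fin n) (Fin n) F) := by
    rw [hx, tdGL_pow_coe, Matrix.diagonal_pow, one_smul, ← Matrix.diagonal_one]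
    congr 1
    funext i
    exact hpow i
  have hns : ∀ z : F, (x : Matrix (Fin n) (Fin n) F) ≠ z • (1 : Matrix (Fin n) (Fin n) F) := by
    intro z
    rw [hx, tdGL_coe]
    apply td_diag_not_scalar d i₀ i₂
    rw [hd, tdD_i₀ _ _ _ _ _ h01, tdD_other _ _ _ _ _ _ h20 h21]
    exact h2
  have hconj := hall x ((td_mem_sl x).mpr hdet) ⟨1, hxr⟩ hns
  apply td_contra_small (by omega) hab e P x hconj 1 _ (hns 1)
  rw [hx, tdGL_coe, td_diag_rank]
  have := tdD_filter_le (1 : F) (-1) (-1) i₀ i₁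
  rw [← hd] at this
  omega

/-- `r = 2 = a`, `c ^ n = -1`: `c · diag(1, -1, …, -1)`. -/
theorem td_case_c (ha : a = 2) (hab : a < b) (hn : n = a * b)
    (e : Fin n ≃ Fin a × Fin b) (P : GL (Fin n) F) (h2 : (2 : F) ≠ 0) (c : F) (hc : c ^ n = -1)
    (hall : TdAll a b e P 2) : False := by
  subst ha
  have hn6 : 6 ≤ n := by omega
  have hc0 : c ≠ 0 := by
    rintro rfl
    rw [zero_pow (by omega)] at hc
    have : (1 : F) = 0 := by linear_combination hc
    exact one_ne_zero this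
  set i₀ : Fin n := ⟨0, by omega⟩ with hi₀
  set i₁ : Fin n := ⟨1, by omega⟩ with hi₁
  have h01 : i₀ ≠ i₁ := by
    intro h; have := congrArg Fin.val h; simp [hi₀, hi₁] at this
  set d : Fin n → F := tdD (-c) c (-c) i₀ i₁ with hd
  have hd0 : ∀ i, d i ≠ 0 := tdD_ne_zero _ _ _ _ _ (neg_ne_zero.mpr hc0) hc0 (neg_ne_zero.mpr hc0)
  set x : GL (Fin n) F := tdGL (Matrix.diagonal d) (td_diag_det_ne d hd0) with hx
  have hdet : (x : Matrix (Fin n) (Fin n) F).det = 1 := by
    rw [hx, tdGL_coe, Matrix.det_diagonal, hd, tdD_prod _ _ _ _ _ h01]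
    have he : Even (n - 2) := ⟨b - 1, by omega⟩
    rw [he.neg_pow]
    have h3 : c * c * c ^ (n - 2) = c ^ n := by
      rw [← sq, ← pow_add]
      congr 1
      omega
    linear_combination (-1 : F) * h3 - hc
  have hpow : ∀ i, d i ^ 2 = c ^ 2 := by
    intro i
    by_cases h1 : i = i₁
    · rw [h1, hd, tdD_i₁]; ring
    by_cases h0 : i = i₀
    · rw [h0, hd, tdD_i₀ _ _ _ _ _ h01]
    rw [hd, tdD_other _ _ _ _ _ _ h0 h1]; ring
  have hxr : ((x ^ 2 : GL (Fin n) F) : Matrix (Fin n) (Fin n) F) =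
      (c ^ 2) • (1 : Matrix (Fin n) (Fin n) F) := by
    rw [hx, tdGL_pow_coe, Matrix.diagonal_pow, ← Matrix.diagonal_one, ← Matrix.diagonal_smul]
    congr 1
    funext i
    rw [Pi.pow_apply, hpow i]
    simp
  have hcc : c ≠ -c := by
    intro h
    have : (2 : F) * c = 0 := by linear_combination h
    rcases mul_eq_zero.mp this with h | h
    · exact h2 h
    · exact hc0 h
  have hns : ∀ z : F, (x : Matrix (Fin n) (Fin n) F) ≠ z • (1 : Matrix (Fin n) (Fin n) F) := by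
    intro z
    rw [hx, tdGL_coe]
    apply td_diag_not_scalar d i₀ i₁
    rw [hd, tdD_i₀ _ _ _ _ _ h01, tdD_i₁]
    exact hcc
  have hconj := hall x ((td_mem_sl x).mpr hdet) ⟨c ^ 2, hxr⟩ hns
  apply td_contra_small (le_refl 2) hab e P x hconj (-c) _ (hns (-c))
  rw [hx, tdGL_coe, td_diag_rank]
  have := tdD_filter_le_one (-c) c i₀ i₁
  rw [← hd] at this
  omega

end Cfsg.Agent.Lib.Helper22.TD
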