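import Cfsg.Agent.Lib.Helper22.TD.Core

/-!
# S5979: derangements of small support (transvections and diagonal elements)
-/

set_option autoImplicit false
set_option linter.unusedVariables false
set_option linter.unusedSectionVars false

namespace Cfsg.Agent.Lib.Helper22.TD

open Matrix
open scoped Kronecker
open Classical

variable {F : Type*} [Field F] {a b n : ℕ}

/-- the hypothesis of the `only if` direction: every element of order `r` modulo scalars has a conjugate in `H`. -/
def TdAll (a b : ℕ) (e : Fin n ≃ Fin a × Fin b) (P : GL (Fin n) F) (r : ℕ) : Prop :=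
  ∀ x ∈ Cfsg.Geo.specialLinear (Fin n) F,
    (∃ z : F, ((x ^ r : GL (Fin n) F) : Matrix (Fin n) (Fin n) F) = z • (1 : Matrix (Fin n) (Fin n) F)) →
    (∀ z : F, (x : Matrix (Fin n) (Fin n) F) ≠ z • (1 : Matrix (Fin n) (Fin n) F)) →
    ∃ g ∈ Cfsg.Geo.specialLinear (Fin n) F, g⁻¹ * x * g ∈ Cfsg.Geo.tensorProductSubgroup a b e P

/-- `GL` element from a matrix with non-zero determinant. -/
noncomputable def tdGL (M : Matrix (Fin n) (Fin n) F) (h : M.det ≠ 0) : GL (Fin n) F :=
  Matrix.GeneralLinearGroup.mkOfDetNeZero M h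

theorem tdGL_coe (M : Matrix (Fin n) (Fin n) F) (h : M.det ≠ 0) :
    ((tdGL M h : GL (Fin n) F) : Matrix (Fin n) (Fin n) F) = M := rfl

theorem tdGL_pow_coe (M : Matrix (Fin n) (Fin n) F) (h : M.det ≠ 0) (m : ℕ) :
    (((tdGL M h) ^ m : GL (Fin n) F) : Matrix (Fin n) (Fin n) F) = M ^ m := by
  rw [Units.val_pow_eq_pow_val, tdGL_coe]

/-- small support: `rank (x - l) < a` for a non-scalar element is impossible. -/
theorem td_contra_small (ha : 2 ≤ a) (hab : a < b) (e : Fin n ≃ Fin a × Fin b) (P x : GL (Fin n) F)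
    (hconj : ∃ g ∈ Cfsg.Geo.specialLinear (Fin n) F,
      g⁻¹ * x * g ∈ Cfsg.Geo.tensorProductSubgroup a b e P)
    (l : F) (hl : ((x : Matrix (Fin n) (Fin n) F) - l • (1 : Matrix (Fin n) (Fin n) F)).rank < a)
    (hx : (x : Matrix (Fin n) (Fin n) F) ≠ l • (1 : Matrix (Fin n) (Fin n) F)) : False := by
  obtain ⟨h, hrank, -⟩ := td_shape_of_small_rank (by omega) e P x hconj l (by omega)
  have h1 := hrank l
  have h0 : (h - l • (1 : Matrix (Fin b) (Fin b) F)).rank = 0 := by
    by_contra hne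
    have : a * 1 ≤ a * (h - l • (1 : Matrix (Fin b) (Fin b) F)).rank :=
      Nat.mul_le_mul_left _ (Nat.pos_of_ne_zero hne)
    omega
  rw [h0, mul_zero] at h1
  exact hx (sub_eq_zero.mp (td_eq_zero_of_rank _ h1))

/-- some `rank (x - l₀) < b` and some `rank (x - l)` not divisible by `a`: impossible. -/
theorem td_contra_ndvd (ha : 1 ≤ a) (e : Fin n ≃ Fin a × Fin b) (P x : GL (Fin n) F)
    (hconj : ∃ g ∈ Cfsg.Geo.specialLinear (Fin n) F,
      g⁻¹ * x * g ∈ Cfsg.Geo.tensorProductSubgroup a b e P)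
    (l₀ : F) (hl₀ : ((x : Matrix (Fin n) (Fin n) F) - l₀ • (1 : Matrix (Fin n) (Fin n) F)).rank < b)
    (l : F) (hl : ¬ a ∣ ((x : Matrix (Fin n) (Fin n) F) - l • (1 : Matrix (Fin n) (Fin n) F)).rank) :
    False := by
  obtain ⟨h, hrank, -⟩ := td_shape_of_small_rank ha e P x hconj l₀ hl₀
  exact hl ⟨_, hrank l⟩

/-! ## transvections -/

theorem td_transvection_pow (i j : Fin n) (hij : i ≠ j) (c : F) (k : ℕ) :
    (Matrix.transvection i j c) ^ k = Matrix.transvection i j ((k : F) * c) := by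
  induction k with
  | zero => simp
  | succ k ih =>
    rw [pow_succ, ih, Matrix.transvection_mul_transvection_same _ _ hij]
    congr 1
    push_cast
    ring

theorem td_case_char (p : ℕ) [Fact p.Prime] [CharP F p] (ha : 2 ≤ a) (hab : a < b) (hn : n = a * b)
    (e : Fin n ≃ Fin a × Fin b) (P : GL (Fin n) F) (hall : TdAll a b e P p) : False := by
  have hn2 : 2 ≤ n := by nlinarith
  set i : Fin n := ⟨0, by omega⟩ with hi
  set j : Fin n := ⟨1, by omega⟩ with hj
  have hij : i ≠ j := by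
    intro h
    have := congrArg Fin.val h
    simp [hi, hj] at this
  have hdet : (Matrix.transvection i j (1 : F)).det ≠ 0 := by
    rw [Matrix.det_transvection_of_ne _ _ hij]
    exact one_ne_zero
  set x : GL (Fin n) F := tdGL (Matrix.transvection i j (1 : F)) hdet with hx
  have hsub : ∀ l : F, (x : Matrix (Fin n) (Fin n) F) - l • (1 : Matrix (Fin n) (Fin n) F) =
      (1 - l) • (1 : Matrix (Fin n) (Fin n) F) + Matrix.single i j (1 : F) := by
    intro l
    rw [hx, tdGL_coe, Matrix.transvection, sub_smul, one_smul]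
    abel
  have hns : ∀ z : F, (x : Matrix (Fin n) (Fin n) F) ≠ z • (1 : Matrix (Fin n) (Fin n) F) := by
    intro z hz
    have h1 := congrFun (congrFun hz i) j
    rw [hx, tdGL_coe, Matrix.transvection] at h1
    simp [Matrix.one_apply, hij] at h1
  have hconj := hall x ((td_mem_sl x).mpr (by rw [hx, tdGL_coe, Matrix.det_transvection_of_ne _ _ hij]))
    ⟨1, by
      rw [hx, tdGL_pow_coe, td_transvection_pow _ _ hij, CharP.cast_eq_zero, zero_mul,
        Matrix.transvection_zero, one_smul]⟩ hns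
  apply td_contra_small ha hab e P x hconj 1 _ (hns 1)
  rw [hsub 1, sub_self, zero_smul, zero_add, Matrix.single_eq_single_vecMulVec_single]
  exact lt_of_le_of_lt (Matrix.rank_vecMulVec_le _ _) (by omega)

/-! ## diagonal elements -/

theorem td_diag_det_ne (d : Fin n → F) (hd : ∀ i, d i ≠ 0) : (Matrix.diagonal d).det ≠ 0 := by
  rw [Matrix.det_diagonal]
  exact Finset.prod_ne_zero_iff.mpr (fun i _ => hd i)

theorem td_diag_sub (d : Fin n → F) (l : F) :
    Matrix.diagonal d - l • (1 : Matrix (Fin n) (Fin n) F) = Matrix.diagonal (fun i => d i - l) := by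
  ext i j
  by_cases h : i = j
  · subst h; simp
  · simp [h, Matrix.one_apply]

theorem td_diag_rank (d : Fin n → F) (l : F) :
    (Matrix.diagonal d - l • (1 : Matrix (Fin n) (Fin n) F)).rank =
      (Finset.univ.filter (fun i => d i ≠ l)).card := by
  rw [td_diag_sub, Matrix.rank_diagonal, Fintype.card_subtype]
  congr 1
  ext i
  simp [sub_eq_zero]

theorem td_diag_not_scalar (d : Fin n → F) (i j : Fin n) (hij : d i ≠ d j) (z : F) :
    Matrix.diagonal d ≠ z • (1 : Matrix (Fin n) (Fin n) F) := by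
  intro h
  have h1 := congrFun (congrFun h i) i
  have h2 := congrFun (congrFun h j) j
  simp at h1 h2
  exact hij (h1.trans h2.symm)

/-- the diagonal function with value `u` except `v` at `i₀` and `w` at `i₁`. -/
def tdD (u v w : F) (i₀ i₁ : Fin n) : Fin n → F :=
  Function.update (Function.update (fun _ => u) i₀ v) i₁ w

theorem tdD_i₁ (u v w : F) (i₀ i₁ : Fin n) : tdD u v w i₀ i₁ i₁ = w := by
  simp [tdD]

theorem tdD_i₀ (u v w : F) (i₀ i₁ : Fin n) (h : i₀ ≠ i₁) : tdD u v w i₀ i₁ i₀ = v := by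
  simp [tdD, h]

theorem tdD_other (u v w : F) (i₀ i₁ i : Fin n) (h0 : i ≠ i₀) (h1 : i ≠ i₁) :
    tdD u v w i₀ i₁ i = u := by
  simp [tdD, h0, h1]

theorem tdD_prod (u v w : F) (i₀ i₁ : Fin n) (h : i₀ ≠ i₁) :
    ∏ i, tdD u v w i₀ i₁ i = w * (v * u ^ (n - 2)) := by
  unfold tdD
  rw [Finset.prod_update_of_mem (Finset.mem_univ _)]
  congr 1
  have hmem : i₀ ∈ Finset.univ \ {i₁} := by
    simp [h]
  rw [Finset.prod_update_of_mem hmem, Finset.prod_const]
  congr 2
  rw [Finset.card_sdiff_of_subset, Finset.card_sdiff_of_subset] <;> simp [h]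
  omega

theorem tdD_filter_le (u v w : F) (i₀ i₁ : Fin n) :
    (Finset.univ.filter (fun i => tdD u v w i₀ i₁ i ≠ u)).card ≤ 2 := by
  have hsub : Finset.univ.filter (fun i => tdD u v w i₀ i₁ i ≠ u) ⊆ {i₀, i₁} := by
    intro i hi
    rw [Finset.mem_filter] at hi
    by_contra hni
    rw [Finset.mem_insert, Finset.mem_singleton, not_or] at hni
    exact hi.2 (tdD_other u v w i₀ i₁ i hni.1 hni.2)
  exact le_trans (Finset.card_le_card hsub) Finset.card_le_two

theorem tdD_ne_zero (u v w : F) (i₀ i₁ : Fin n) (hu : u ≠ 0) (hv : v ≠ 0) (hw : w ≠ 0) (i : Fin n) :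
    tdD u v w i₀ i₁ i ≠ 0 := by
  by_cases h1 : i = i₁
  · subst h1; rw [tdD_i₁]; exact hw
  by_cases h0 : i = i₀
  · subst h0; rw [tdD_i₀ _ _ _ _ _ h1]; exact hv
  rw [tdD_other _ _ _ _ _ _ h0 h1]; exact hu

end Cfsg.Agent.Lib.Helper22.TD
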