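import Cfsg.Agent.Lib.Helper22.TD.Core

/-!
# TD toolkit, general versions (for S5980 and other tensor-decomposition statements)

* `td_conj_gen`: a conjugate by an ARBITRARY `g` in `tensorProductSubgroup a b e P` gives `glReindex e x = Q * k * Q⁻¹`.
* `td_rank_ge_right`, `td_right_scalar`, `td_rank_kron_one`: the mirror images of `td_rank_ge`, `td_left_scalar`,
  `td_rank_one_kron`.
* `td_nonscalar_rank_ge`: a non-scalar `α ⊗ β` (`α`, `β` invertible) has `rank (α ⊗ β - l) ≥ min a b` for every `l`.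
-/

set_option autoImplicit false
set_option linter.unusedVariables false
set_option linter.unusedSectionVars false

namespace Cfsg.Agent.Lib.Helper22.TD

open Matrix
open scoped Kronecker
open Cfsg.Agent.Lib.helper7.TP

variable {F : Type*} [Field F] {a b : ℕ}

theorem td_conj_gen {ι : Type} [Fintype ι] [DecidableEq ι] (e : ι ≃ Fin a × Fin b) (P x g : GL ι F)
    (h : g⁻¹ * x * g ∈ Cfsg.Geo.tensorProductSubgroup a b e P) :
    ∃ k ∈ Cfsg.Geo.kroneckerSubgroup a b F, ∃ Q : GL (Fin a × Fin b) F,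
      Cfsg.Geo.glReindex e x = Q * k * Q⁻¹ := by
  obtain ⟨k, hk, hy⟩ := (td_mem_tps e P _).mp h
  refine ⟨k, hk, Cfsg.Geo.glReindex e (g * P), ?_⟩
  have hx : x = (g * P) * Cfsg.Geo.glReindex e.symm k * (g * P)⁻¹ := by
    have : x = g * (g⁻¹ * x * g) * g⁻¹ := by group
    rw [this, hy]
    group
  rw [hx, map_mul, map_mul, td_glReindex_apply_symm, map_inv]

/-- entries of `(γ ⊗ 1) v`. -/
theorem td_kron_one_mulVec (γ : Matrix (Fin a) (Fin a) F) (v : Fin a × Fin b → F)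
    (i : Fin a) (j : Fin b) :
    ((γ ⊗ₖ (1 : Matrix (Fin b) (Fin b) F)) *ᵥ v) (i, j) = (γ *ᵥ fun i' => v (i', j)) i := by
  simp only [Matrix.mulVec, dotProduct, Fintype.sum_prod_type, Matrix.kroneckerMap_apply,
    Matrix.one_apply]
  apply Finset.sum_congr rfl
  intro i' _
  simp

/-- `rank (γ ⊗ 1_b) = b * rank γ`. -/
theorem td_rank_kron_one (γ : Matrix (Fin a) (Fin a) F) :
    (γ ⊗ₖ (1 : Matrix (Fin b) (Fin b) F)).rank = b * γ.rank := by
  classical
  let Φ : (Fin b → LinearMap.range γ.mulVecLin) →ₗ[F] (Fin a × Fin b → F) :=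
    { toFun := fun f p => (f p.2 : Fin a → F) p.1
      map_add' := by intro f g; funext p; simp
      map_smul' := by intro c f; funext p; simp }
  have hΦ : ∀ f p, Φ f p = (f p.2 : Fin a → F) p.1 := fun f p => rfl
  have hinj : Function.Injective Φ := by
    intro f g h
    funext j
    apply Subtype.ext
    funext i
    exact congrFun h (i, j)
  have hrange : LinearMap.range Φ =
      LinearMap.range (γ ⊗ₖ (1 : Matrix (Fin b) (Fin b) F)).mulVecLin := by
    apply le_antisymm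
    · rintro _ ⟨f, rfl⟩
      have : ∀ j, ∃ g : Fin a → F, γ *ᵥ g = (f j : Fin a → F) := fun j => by
        obtain ⟨g, hg⟩ := (f j).2
        exact ⟨g, by rw [← hg, Matrix.mulVecLin_apply]⟩
      choose g hg using this
      refine ⟨fun p => g p.2 p.1, ?_⟩
      funext p
      obtain ⟨i, j⟩ := p
      rw [Matrix.mulVecLin_apply, td_kron_one_mulVec, hΦ]
      exact congrFun (hg j) i
    · rintro _ ⟨v, rfl⟩
      refine ⟨fun j => ⟨γ *ᵥ (fun i' => v (i', j)), ⟨_, Matrix.mulVecLin_apply _ _⟩⟩, ?_⟩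
      funext p
      obtain ⟨i, j⟩ := p
      rw [Matrix.mulVecLin_apply, td_kron_one_mulVec, hΦ]
  rw [Matrix.rank, ← hrange, LinearMap.finrank_range_of_inj hinj, Module.finrank_pi_fintype]
  simp [Matrix.rank]

/-- `γ ⊗ 1 - l = (γ - l) ⊗ 1`. -/
theorem td_kron_one_sub (γ : Matrix (Fin a) (Fin a) F) (l : F) :
    γ ⊗ₖ (1 : Matrix (Fin b) (Fin b) F) - l • (1 : Matrix (Fin a × Fin b) (Fin a × Fin b) F) =
      (γ - l • (1 : Matrix (Fin a) (Fin a) F)) ⊗ₖ (1 : Matrix (Fin b) (Fin b) F) := by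
  have h1 : (1 : Matrix (Fin a × Fin b) (Fin a × Fin b) F) =
      (1 : Matrix (Fin a) (Fin a) F) ⊗ₖ (1 : Matrix (Fin b) (Fin b) F) :=
    (Matrix.one_kronecker_one).symm
  rw [sub_eq_iff_eq_add, h1, ← Matrix.smul_kronecker, ← Matrix.add_kronecker, sub_add_cancel]

/-- mirror of `td_rank_ge`: if `β w ∉ F w` and `α` is injective then `rank (α ⊗ β - l) ≥ a`. -/
theorem td_rank_ge_right (α : Matrix (Fin a) (Fin a) F) (β : Matrix (Fin b) (Fin b) F)
    (hα : ∀ u : Fin a → F, α *ᵥ u = 0 → u = 0)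
    (w : Fin b → F) (hw : ∀ c : F, β *ᵥ w ≠ c • w) (l : F) :
    a ≤ (α ⊗ₖ β - l • (1 : Matrix (Fin a × Fin b) (Fin a × Fin b) F)).rank := by
  classical
  have hN : ∀ u : Fin a → F, (α ⊗ₖ β - l • (1 : Matrix (Fin a × Fin b) (Fin a × Fin b) F)) *ᵥ ten u w =
      ten (α *ᵥ u) (β *ᵥ w) - l • ten u w := by
    intro u
    rw [Matrix.sub_mulVec, Matrix.smul_mulVec, Matrix.one_mulVec, kron_mulVec_ten]
  let φ : (Fin a → F) →ₗ[F] (Fin a × Fin b → F) :=
    { toFun := fun u => (α ⊗ₖ β - l • (1 : Matrix (Fin a × Fin b) (Fin a × Fin b) F)) *ᵥ ten u w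
      map_add' := by
        intro u u'
        rw [ten_add_left, Matrix.mulVec_add]
      map_smul' := by
        intro c u
        rw [ten_smul_left, Matrix.mulVec_smul, RingHom.id_apply] }
  have hφ : ∀ u, φ u = (α ⊗ₖ β - l • (1 : Matrix (Fin a × Fin b) (Fin a × Fin b) F)) *ᵥ ten u w :=
    fun u => rfl
  have hinj : Function.Injective φ := by
    rw [← LinearMap.ker_eq_bot, LinearMap.ker_eq_bot']
    intro u hu
    rw [hφ, hN, sub_eq_zero] at hu
    by_contra hu0
    have hαu : α *ᵥ u ≠ 0 := fun h => hu0 (hα u h)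
    obtain ⟨i, hi⟩ := Function.ne_iff.1 hαu
    simp only [Pi.zero_apply] at hi
    apply hw (l * u i / (α *ᵥ u) i)
    funext j
    have h1 := congrFun hu (i, j)
    simp only [ten, Pi.smul_apply, smul_eq_mul] at h1 ⊢
    field_simp
    rw [mul_comm, h1]
    ring
  have h := tpc1_le_rank (α ⊗ₖ β - l • (1 : Matrix (Fin a × Fin b) (Fin a × Fin b) F)) φ hinj
    (fun u => ⟨ten u w, hφ u⟩)
  rwa [Module.finrank_fin_fun] at h

/-- mirror of `td_left_scalar`. -/
theorem td_right_scalar (hb : 1 ≤ b) (α : Matrix (Fin a) (Fin a) F) (β : Matrix (Fin b) (Fin b) F)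
    (hα : ∀ u : Fin a → F, α *ᵥ u = 0 → u = 0) (l : F)
    (hr : (α ⊗ₖ β - l • (1 : Matrix (Fin a × Fin b) (Fin a × Fin b) F)).rank < a) :
    ∃ c : F, β = c • (1 : Matrix (Fin b) (Fin b) F) := by
  apply tpc1_scalar_of_all_eigen hb
  by_contra hcon
  push Not at hcon
  obtain ⟨w, hw⟩ := hcon
  have := td_rank_ge_right α β hα w hw l
  omega

/-- a non-scalar Kronecker product of invertible matrices has `rank (α ⊗ β - l) ≥ min a b`. -/
theorem td_nonscalar_rank_ge (ha : 1 ≤ a) (hb : 1 ≤ b) (α : GL (Fin a) F) (β : GL (Fin b) F)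
    (hns : ∀ z : F, (α : Matrix (Fin a) (Fin a) F) ⊗ₖ (β : Matrix (Fin b) (Fin b) F) ≠
      z • (1 : Matrix (Fin a × Fin b) (Fin a × Fin b) F)) (l : F) :
    min a b ≤ ((α : Matrix (Fin a) (Fin a) F) ⊗ₖ (β : Matrix (Fin b) (Fin b) F) -
      l • (1 : Matrix (Fin a × Fin b) (Fin a × Fin b) F)).rank := by
  by_contra hlt
  rw [not_le, lt_min_iff] at hlt
  obtain ⟨c, hc⟩ := td_left_scalar ha (α : Matrix (Fin a) (Fin a) F) (β : Matrix (Fin b) (Fin b) F)
    (td_gl_inj β) l hlt.2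
  obtain ⟨c', hc'⟩ := td_right_scalar hb (α : Matrix (Fin a) (Fin a) F) (β : Matrix (Fin b) (Fin b) F)
    (td_gl_inj α) l hlt.1
  apply hns (c * c')
  rw [hc, hc', Matrix.smul_kronecker, Matrix.kronecker_smul, Matrix.one_kronecker_one, smul_smul]

end Cfsg.Agent.Lib.Helper22.TD
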