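import Cfsg.Agent.Lib.Helper22.TD.Split
import Cfsg.Agent.Lib.Helper22.TD.Arith
import Cfsg.Agent.Lib.Helper22.TD.Transfer

/-!
# S5979, `if` direction: the interface `TdGood` and the split case
-/

set_option autoImplicit false
set_option linter.unusedVariables false
set_option linter.unusedSectionVars false
set_option linter.unusedSimpArgs false

namespace Cfsg.Agent.Lib.Helper22.TD

open Matrix
open scoped Kronecker
open Classical

variable {F : Type*} [Field F] {b : ℕ}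

/-- `X` is conjugate to a Kronecker element whose centraliser has all determinants. -/
def TdGood (b : ℕ) (X : GL (Fin 2 × Fin b) F) : Prop :=
  ∃ k ∈ Cfsg.Geo.kroneckerSubgroup 2 b F, (∃ Q₀ : GL (Fin 2 × Fin b) F, X = Q₀ * k * Q₀⁻¹) ∧
    ∀ δ : F, δ ≠ 0 → ∃ c' : GL (Fin 2 × Fin b) F, c' * k = k * c' ∧
      (c' : Matrix (Fin 2 × Fin b) (Fin 2 × Fin b) F).det = δ

theorem td_good_adjust (X : GL (Fin 2 × Fin b) F) (h : TdGood b X) (δ : F) (hδ : δ ≠ 0) :
    ∃ k ∈ Cfsg.Geo.kroneckerSubgroup 2 b F, ∃ Q : GL (Fin 2 × Fin b) F,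
      (Q : Matrix (Fin 2 × Fin b) (Fin 2 × Fin b) F).det = δ ∧ X = Q * k * Q⁻¹ := by
  obtain ⟨k, hk, ⟨Q₀, hQ₀⟩, hcen⟩ := h
  have hQ₀det : (Q₀ : Matrix (Fin 2 × Fin b) (Fin 2 × Fin b) F).det ≠ 0 :=
    ((Matrix.isUnit_iff_isUnit_det _).mp (Units.isUnit Q₀)).ne_zero
  obtain ⟨c', hc'k, hc'det⟩ := hcen (δ / (Q₀ : Matrix (Fin 2 × Fin b) (Fin 2 × Fin b) F).det)
    (div_ne_zero hδ hQ₀det)
  refine ⟨k, hk, Q₀ * c', ?_, ?_⟩
  · rw [Units.val_mul, Matrix.det_mul, hc'det]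
    field_simp
  · rw [hQ₀]
    have : c' * k * c'⁻¹ = k := by rw [hc'k]; group
    calc Q₀ * k * Q₀⁻¹ = Q₀ * (c' * k * c'⁻¹) * Q₀⁻¹ := by rw [this]
      _ = Q₀ * c' * k * (Q₀ * c')⁻¹ := by group

/-- the product of the diagonal entries. -/
theorem td_prod_sign {k₁ k₂ : ℕ} {ι : Type} [Fintype ι] (σ : ι ≃ Fin k₁ ⊕ Fin k₂) (c : F) :
    ∏ i, (if (σ i).isLeft then c else -c) = c ^ k₁ * (-c) ^ k₂ := by
  rw [Fintype.prod_equiv σ (fun i => if (σ i).isLeft then c else -c)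
    (fun s => if s.isLeft then c else -c) (fun i => rfl), Fintype.prod_sum_type]
  simp

/-- the index bijection respecting the second factor. -/
noncomputable def tdSigma (j₁ j₂ : ℕ) (hb : b = j₁ + j₂) :
    Fin 2 × Fin b ≃ Fin (2 * j₁) ⊕ Fin (2 * j₂) :=
  (Equiv.prodCongr (Equiv.refl (Fin 2)) ((finCongr hb).trans finSumFinEquiv.symm)).trans
    ((Equiv.prodSumDistrib (Fin 2) (Fin j₁) (Fin j₂)).trans
      (Equiv.sumCongr finProdFinEquiv finProdFinEquiv))

theorem tdSigma_isLeft (j₁ j₂ : ℕ) (hb : b = j₁ + j₂) (i : Fin 2) (j : Fin b) :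
    (tdSigma j₁ j₂ hb (i, j)).isLeft = (((finCongr hb).trans finSumFinEquiv.symm) j).isLeft := by
  unfold tdSigma
  rcases h : ((finCongr hb).trans finSumFinEquiv.symm) j with s | s
  · have h' : finSumFinEquiv.symm (Fin.cast hb j) = Sum.inl s := by simpa using h
    simp [h', Equiv.prodSumDistrib]
  · have h' : finSumFinEquiv.symm (Fin.cast hb j) = Sum.inr s := by simpa using h
    simp [h', Equiv.prodSumDistrib]

/-- centraliser elements of a diagonal matrix with prescribed determinant. -/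
theorem td_diag_centralizer {ι : Type} [Fintype ι] [DecidableEq ι] [Nonempty ι] (k : GL ι F) (d : ι → F)
    (hk : (k : Matrix ι ι F) = Matrix.diagonal d) (δ : F) (hδ : δ ≠ 0) :
    ∃ c' : GL ι F, c' * k = k * c' ∧ (c' : Matrix ι ι F).det = δ := by
  obtain ⟨p₀⟩ := ‹Nonempty ι›
  have hdet : (Matrix.diagonal (Function.update (fun _ : ι => (1 : F)) p₀ δ)).det = δ := by
    rw [Matrix.det_diagonal, Finset.prod_update_of_mem (Finset.mem_univ _)]
    simp
  refine ⟨Matrix.GeneralLinearGroup.mkOfDetNeZero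
    (Matrix.diagonal (Function.update (fun _ : ι => (1 : F)) p₀ δ)) (by rw [hdet]; exact hδ), ?_, hdet⟩
  apply Units.ext
  rw [Units.val_mul, Units.val_mul, hk]
  show Matrix.diagonal _ * Matrix.diagonal d = Matrix.diagonal d * Matrix.diagonal _
  rw [Matrix.diagonal_mul_diagonal, Matrix.diagonal_mul_diagonal]
  congr 1
  funext i
  exact mul_comm _ _

theorem td_good_split [Fintype F] (hb : 1 ≤ b) (X : GL (Fin 2 × Fin b) F) (c : F) (h2 : (2 : F) ≠ 0)
    (hX : (X : Matrix (Fin 2 × Fin b) (Fin 2 × Fin b) F) * (X : Matrix (Fin 2 × Fin b) (Fin 2 × Fin b) F) =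
      (c * c) • (1 : Matrix (Fin 2 × Fin b) (Fin 2 × Fin b) F))
    (hdet : (X : Matrix (Fin 2 × Fin b) (Fin 2 × Fin b) F).det = 1)
    (hv : padicValNat 2 (Fintype.card F - 1) ≤ padicValNat 2 (2 * b)) : TdGood b X := by
  have : Nonempty (Fin 2 × Fin b) := ⟨(0, ⟨0, hb⟩)⟩
  have hc : c ≠ 0 := by
    rintro rfl
    have := congrArg Matrix.det hX
    rw [Matrix.det_mul, hdet, mul_zero, zero_smul, Matrix.det_zero, mul_one] at this
    exact one_ne_zero (α := F) this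
  obtain ⟨k₁, k₂, hk, hσ⟩ := td_split_conj (X : Matrix (Fin 2 × Fin b) (Fin 2 × Fin b) F) c hc h2 hX
  rw [Fintype.card_prod, Fintype.card_fin, Fintype.card_fin] at hk
  have hk₂ : Even k₂ := by
    by_contra hodd
    rw [Nat.not_even_iff_odd] at hodd
    have hcard : Fintype.card (Fin 2 × Fin b) = Fintype.card (Fin k₁ ⊕ Fin k₂) := by
      simp
      omega
    obtain ⟨Q, hQ, hXQ⟩ := hσ (Fintype.equivOfCardEq hcard)
    have h1 := congrArg Matrix.det hXQ
    rw [Matrix.det_mul, Matrix.det_mul, hdet, one_mul, Matrix.det_diagonal, td_prod_sign] at h1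
    have h3 : c ^ k₁ * (-c) ^ k₂ = 1 := by
      have hQ0 := hQ.ne_zero
      have : Q.det * 1 = Q.det * (c ^ k₁ * (-c) ^ k₂) := by rw [mul_one]; exact h1
      exact (mul_left_cancel₀ hQ0 this).symm
    rw [hodd.neg_pow, mul_neg, ← pow_add, hk] at h3
    exact td_no_c h2 (2 * b) (by omega) hv c (by linear_combination -h3)
  obtain ⟨j₂, hj₂⟩ := hk₂
  have hbj : b = (b - j₂) + j₂ := by omega
  obtain rfl : k₁ = 2 * (b - j₂) := by omega
  obtain rfl : k₂ = 2 * j₂ := by omega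
  obtain ⟨Q, hQ, hXQ⟩ := hσ (tdSigma (b - j₂) j₂ hbj)
  set Qu : GL (Fin 2 × Fin b) F := Matrix.GeneralLinearGroup.mk'' Q hQ with hQu
  have hQuc : (Qu : Matrix (Fin 2 × Fin b) (Fin 2 × Fin b) F) = Q := rfl
  set D : Fin b → F := fun j =>
    if (((finCongr hbj).trans finSumFinEquiv.symm) j).isLeft then c else -c with hD
  have hD0 : ∀ j, D j ≠ 0 := by
    intro j
    rw [hD]
    dsimp only
    split_ifs
    · exact hc
    · exact neg_ne_zero.mpr hc
  set k : GL (Fin 2 × Fin b) F := Qu⁻¹ * X * Qu with hkdef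
  have hk1 : (k : Matrix (Fin 2 × Fin b) (Fin 2 × Fin b) F) =
      Matrix.diagonal (fun p : Fin 2 × Fin b => D p.2) := by
    rw [hkdef, Units.val_mul, Units.val_mul, hQuc, Matrix.mul_assoc, hXQ, ← Matrix.mul_assoc,
      ← hQuc, ← Units.val_mul, inv_mul_cancel, Units.val_one, Matrix.one_mul]
    congr 1
    funext p
    obtain ⟨i, j⟩ := p
    rw [tdSigma_isLeft]
  have hk2 : (k : Matrix (Fin 2 × Fin b) (Fin 2 × Fin b) F) =
      (1 : Matrix (Fin 2) (Fin 2) F) ⊗ₖ Matrix.diagonal D := by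
    rw [hk1, ← Matrix.diagonal_one, Matrix.diagonal_kronecker_diagonal]
    congr 1
    funext p
    simp
  refine ⟨k, ⟨1, Matrix.GeneralLinearGroup.mkOfDetNeZero (Matrix.diagonal D)
    (by rw [Matrix.det_diagonal]; exact Finset.prod_ne_zero_iff.mpr (fun j _ => hD0 j)), ?_⟩,
    ⟨Qu, by rw [hkdef]; group⟩, fun δ hδ => td_diag_centralizer k _ hk1 δ hδ⟩
  rw [hk2]
  rfl

end Cfsg.Agent.Lib.Helper22.TD
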