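import Cfsg.Agent.Lib.Helper22.TD.NonSplit
import Cfsg.Agent.Lib.Helper22.TD.IfSplit

/-!
# S5979, `if` direction: the non-split case gives `TdGood`
-/

set_option autoImplicit false
set_option linter.unusedVariables false
set_option linter.unusedSectionVars false
set_option linter.unusedSimpArgs false

namespace Cfsg.Agent.Lib.Helper22.TD

open Matrix
open scoped Kronecker
open Classical

variable {F : Type*} [Field F] {b : ℕ}

/-- a basis on which `X` acts through the matrix `M` gives `X * Q = Q * M`. -/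
theorem td_conj_of_basis_gen {ι : Type} [Fintype ι] [DecidableEq ι] (X M : Matrix ι ι F)
    (B : Module.Basis ι F (ι → F)) (h : ∀ j, X *ᵥ (B j) = ∑ k, M k j • B k) :
    ∃ Q : Matrix ι ι F, IsUnit Q.det ∧ X * Q = Q * M := by
  refine ⟨Matrix.of (fun i j => B j i), ?_, ?_⟩
  · rw [← Matrix.isUnit_iff_isUnit_det, ← Matrix.linearIndependent_cols_iff_isUnit]
    have : (Matrix.of (fun i j => B j i)).col = fun j => B j := by
      funext j i
      rfl
    rw [this]
    exact B.linearIndependent
  · ext i j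
    rw [Matrix.mul_apply, Matrix.mul_apply]
    have := congrFun (h j) i
    simp only [Matrix.mulVec, dotProduct, Finset.sum_apply, Pi.smul_apply, smul_eq_mul] at this
    simp only [Matrix.of_apply]
    rw [this]
    apply Finset.sum_congr rfl
    intro k _
    rw [mul_comm]

/-- the companion matrix of `X² - z`. -/
def tdC (z : F) : Matrix (Fin 2) (Fin 2) F := !![0, z; 1, 0]

theorem tdC_det (z : F) : (tdC z).det = -z := by
  rw [tdC, Matrix.det_fin_two_of]
  ring

theorem td_kron_one_eq_blockDiagonal (C : Matrix (Fin 2) (Fin 2) F) :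
    C ⊗ₖ (1 : Matrix (Fin b) (Fin b) F) = Matrix.blockDiagonal (fun _ : Fin b => C) := by
  ext ⟨i, j⟩ ⟨i', j'⟩
  rw [Matrix.kroneckerMap_apply, Matrix.blockDiagonal_apply, Matrix.one_apply]
  split_ifs <;> simp

theorem td_good_nonsplit [Fintype F] (hb : 1 ≤ b) (X : GL (Fin 2 × Fin b) F) (z : F)
    (hz : ¬ IsSquare z) (hodd : Fintype.card F % 2 = 1)
    (hX : (X : Matrix (Fin 2 × Fin b) (Fin 2 × Fin b) F) * (X : Matrix (Fin 2 × Fin b) (Fin 2 × Fin b) F) =
      z • (1 : Matrix (Fin 2 × Fin b) (Fin 2 × Fin b) F)) : TdGood b X := by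
  have hz0 : z ≠ 0 := by
    rintro rfl
    exact hz ⟨0, by simp⟩
  obtain ⟨B, hB⟩ := td_nonsplit_basis b (by simp) (X : Matrix (Fin 2 × Fin b) (Fin 2 × Fin b) F) z hz hX
  have hXX : ∀ v, (X : Matrix (Fin 2 × Fin b) (Fin 2 × Fin b) F) *ᵥ
      ((X : Matrix (Fin 2 × Fin b) (Fin 2 × Fin b) F) *ᵥ v) = z • v := by
    intro v
    rw [Matrix.mulVec_mulVec, hX, Matrix.smul_mulVec, Matrix.one_mulVec]
  obtain ⟨Q, hQ, hXQ⟩ := td_conj_of_basis_gen (X : Matrix (Fin 2 × Fin b) (Fin 2 × Fin b) F)
    (tdC z ⊗ₖ (1 : Matrix (Fin b) (Fin b) F)) B (by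
      rintro ⟨i, l⟩
      rw [Fintype.sum_prod_type, Fin.sum_univ_two]
      have hsum : ∀ i' : Fin 2, ∑ l' : Fin b, (tdC z ⊗ₖ (1 : Matrix (Fin b) (Fin b) F)) (i', l') (i, l) • B (i', l') =
          tdC z i' i • B (i', l) := by
        intro i'
        rw [Finset.sum_eq_single l]
        · simp [Matrix.kroneckerMap_apply]
        · intro l' _ hl'
          simp [Matrix.kroneckerMap_apply, Matrix.one_apply, hl']
        · intro h
          exact absurd (Finset.mem_univ l) h
      rw [hsum 0, hsum 1]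
      fin_cases i
      · simp [tdC, hB]
      · simp [tdC, hB, hXX])
  set Qu : GL (Fin 2 × Fin b) F := Matrix.GeneralLinearGroup.mk'' Q hQ with hQu
  have hQuc : (Qu : Matrix (Fin 2 × Fin b) (Fin 2 × Fin b) F) = Q := rfl
  set k : GL (Fin 2 × Fin b) F := Qu⁻¹ * X * Qu with hkdef
  have hk1 : (k : Matrix (Fin 2 × Fin b) (Fin 2 × Fin b) F) =
      tdC z ⊗ₖ (1 : Matrix (Fin b) (Fin b) F) := by
    rw [hkdef, Units.val_mul, Units.val_mul, hQuc, Matrix.mul_assoc, hXQ, ← Matrix.mul_assoc,
      ← hQuc, ← Units.val_mul, inv_mul_cancel, Units.val_one, Matrix.one_mul]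
  have hCdet : (tdC z).det ≠ 0 := by
    rw [tdC_det]
    exact neg_ne_zero.mpr hz0
  refine ⟨k, ⟨Matrix.GeneralLinearGroup.mkOfDetNeZero (tdC z) hCdet, 1, ?_⟩,
    ⟨Qu, by rw [hkdef]; group⟩, ?_⟩
  · rw [hk1]
    rfl
  · intro δ hδ
    -- a² - z b'² = δ
    obtain ⟨a, b', hab⟩ := FiniteField.exists_root_sum_quadratic (R := F)
      (f := Polynomial.X ^ 2) (g := - Polynomial.C z * Polynomial.X ^ 2 - Polynomial.C δ)
      (by simp) (by
        have h1 : (- Polynomial.C z * Polynomial.X ^ 2 - Polynomial.C δ : Polynomial F) =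
            Polynomial.C (-z) * Polynomial.X ^ 2 + Polynomial.C 0 * Polynomial.X + Polynomial.C (-δ) := by
          simp [sub_eq_add_neg]
        rw [h1]
        exact Polynomial.degree_quadratic (neg_ne_zero.mpr hz0)) hodd
    simp only [Polynomial.eval_pow, Polynomial.eval_X, Polynomial.eval_sub, Polynomial.eval_mul,
      Polynomial.eval_neg, Polynomial.eval_C] at hab
    have hab' : a * a - b' * z * b' = δ := by linear_combination hab
    set N : Matrix (Fin 2) (Fin 2) F := !![a, b' * z; b', a] with hN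
    have hNdet : N.det = δ := by
      rw [hN, Matrix.det_fin_two_of]
      exact hab'
    have hNC : N * tdC z = tdC z * N := by
      rw [hN, tdC]
      ext i j
      fin_cases i <;> fin_cases j <;> simp [Matrix.mul_apply, Fin.sum_univ_two] <;> ring
    set j₀ : Fin b := ⟨0, hb⟩ with hj₀
    set Mc : Matrix (Fin 2 × Fin b) (Fin 2 × Fin b) F :=
      Matrix.blockDiagonal (fun j : Fin b => if j = j₀ then N else 1) with hMc
    have hMcdet : Mc.det = δ := by
      rw [hMc, Matrix.det_blockDiagonal]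
      have : ∀ j : Fin b, (if j = j₀ then N else (1 : Matrix (Fin 2) (Fin 2) F)).det =
          if j = j₀ then δ else 1 := by
        intro j
        split_ifs
        · exact hNdet
        · exact Matrix.det_one
      simp_rw [this]
      rw [Finset.prod_ite_eq' Finset.univ j₀ (fun _ => δ)]
      simp
    have hcomm : Mc * (k : Matrix (Fin 2 × Fin b) (Fin 2 × Fin b) F) =
        (k : Matrix (Fin 2 × Fin b) (Fin 2 × Fin b) F) * Mc := by
      rw [hk1, td_kron_one_eq_blockDiagonal, hMc, ← Matrix.blockDiagonal_mul, ← Matrix.blockDiagonal_mul]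
      congr 1
      funext j
      split_ifs
      · exact hNC
      · rw [one_mul, mul_one]
    refine ⟨Matrix.GeneralLinearGroup.mkOfDetNeZero Mc (by rw [hMcdet]; exact hδ), ?_, hMcdet⟩
    apply Units.ext
    exact hcomm

end Cfsg.Agent.Lib.Helper22.TD
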