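import Cfsg.Agent.Lib.Helper22.TD.OnlyIf
import Cfsg.Agent.Lib.Helper22.TD.IfNonSplit

/-!
# S5979: the `if` direction and the main theorem
-/

set_option autoImplicit false
set_option linter.unusedVariables false
set_option linter.unusedSectionVars false

namespace Cfsg.Agent.Lib.Helper22.TD

open Matrix
open Classical

variable {F : Type*} [Field F] [Fintype F] {b n : ℕ}

theorem td_if (hn : n = 2 * b) (hb : 2 < b) (e : Fin n ≃ Fin 2 × Fin b) (P : GL (Fin n) F)
    (hodd : Odd (Fintype.card F))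
    (hv : padicValNat 2 (Fintype.card F - 1) ≤ padicValNat 2 n) : TdAll 2 b e P 2 := by
  intro x hx hsq hns
  obtain ⟨z, hz⟩ := hsq
  have h2 : (2 : F) ≠ 0 := by
    intro h
    have h1 : ((2 : ℕ) : F) = 0 := by exact_mod_cast h
    obtain ⟨p, hp⟩ := CharP.exists F
    have := hp
    rw [CharP.cast_eq_zero_iff F p] at h1
    have hpp : p.Prime := (CharP.char_is_prime_or_zero F p).resolve_right (by
      intro h0
      subst h0
      exact absurd (CharP.charP_to_charZero F) (by
        intro hcz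
        exact not_finite F))
    have hp2 : p = 2 := (Nat.prime_dvd_prime_iff_eq hpp Nat.prime_two).mp h1
    subst hp2
    obtain ⟨k, -, hk⟩ := FiniteField.card F 2
    rw [hk] at hodd
    exact (Nat.not_even_iff_odd.mpr hodd) (Even.pow_of_ne_zero even_two (by positivity))
  set X : GL (Fin 2 × Fin b) F := Cfsg.Geo.glReindex e x with hXdef
  have hXX : (X : Matrix (Fin 2 × Fin b) (Fin 2 × Fin b) F) * (X : Matrix (Fin 2 × Fin b) (Fin 2 × Fin b) F) =
      z • (1 : Matrix (Fin 2 × Fin b) (Fin 2 × Fin b) F) := by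
    have h1 : ((Cfsg.Geo.glReindex e (x ^ 2) : GL (Fin 2 × Fin b) F) :
        Matrix (Fin 2 × Fin b) (Fin 2 × Fin b) F) = z • 1 := by
      rw [td_glReindex_coe, hz]
      ext i j
      simp [Matrix.one_apply]
    rw [map_pow, ← hXdef, Units.val_pow_eq_pow_val, sq] at h1
    exact h1
  have hXdet : (X : Matrix (Fin 2 × Fin b) (Fin 2 × Fin b) F).det = 1 := by
    rw [hXdef, td_glReindex_det]
    exact (td_mem_sl x).mp hx
  have hgood : TdGood b X := by
    by_cases hzsq : IsSquare z
    · obtain ⟨c, rfl⟩ := hzsq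
      exact td_good_split (by omega) X c h2 hXX hXdet (by rw [← hn]; exact hv)
    · exact td_good_nonsplit (by omega) X z hzsq (Nat.odd_iff.mp hodd) hXX
  have hPdet : (P : Matrix (Fin n) (Fin n) F).det ≠ 0 :=
    ((Matrix.isUnit_iff_isUnit_det _).mp (Units.isUnit P)).ne_zero
  obtain ⟨k, hk, Q, hQdet, hXQ⟩ := td_good_adjust X hgood _ hPdet
  exact (td_transfer e P x).mpr ⟨k, hk, Q, hQdet, hXQ⟩

/-- S5979 with `q = Fintype.card F`. -/
theorem td_main (p : ℕ) [Fact p.Prime] [CharP F p] (n a b : ℕ) (hab : n = a * b) (ha : 2 ≤ a)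
    (hlt : a < b) (e : Fin n ≃ Fin a × Fin b) (P : GL (Fin n) F) (r : ℕ) [Fact r.Prime]
    (hΩ : r ∣ (Cfsg.Geo.tensorProductSubgroup a b e P).relIndex (Cfsg.Geo.specialLinear (Fin n) F)) :
    TdAll a b e P r ↔
      (r = 2 ∧ a = 2 ∧ Odd (Fintype.card F) ∧
        padicValNat 2 (Fintype.card F - 1) ≤ padicValNat 2 n) := by
  constructor
  · intro hall
    exact td_only_if p hab ha hlt e P r hΩ hall
  · rintro ⟨rfl, rfl, hodd, hv⟩
    exact td_if hab hlt e P hodd hv

end Cfsg.Agent.Lib.Helper22.TD
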