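import Mathlib

/-!
# S5979, `if` direction, non-split case: `X * X = z • 1` with `z` a non-square

`td_nonsplit_basis`: there are vectors `u j` (`j : Fin b`) such that `u j, X u j` form a basis of `F^(Fin 2 × Fin b)`.
-/

set_option autoImplicit false
set_option linter.unusedVariables false
set_option linter.unusedSectionVars false

namespace Cfsg.Agent.Lib.Helper22.TD

open Matrix Polynomial
open Classical
open scoped IsMulCommutative

variable {F : Type*} [Field F] {ι : Type} [Fintype ι] [DecidableEq ι]

theorem td_nonsplit_basis (b : ℕ) (hcard : Fintype.card ι = 2 * b) (X : Matrix ι ι F) (z : F)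
    (hz : ¬ IsSquare z) (hX : X * X = z • (1 : Matrix ι ι F)) :
    ∃ B : Module.Basis (Fin 2 × Fin b) F (ι → F),
      ∀ j : Fin b, B (1, j) = X *ᵥ B (0, j) := by
  set f : F[X] := Polynomial.X ^ 2 - Polynomial.C z with hf
  have hirr : Irreducible f := by
    apply X_pow_sub_C_irreducible_of_prime Nat.prime_two
    intro a ha
    exact hz ⟨a, by rw [← ha, sq]⟩
  have hf0 : f ≠ 0 := hirr.ne_zero
  have hdeg : f.natDegree = 2 := Polynomial.natDegree_X_pow_sub_C
  have : Fact (Irreducible f) := ⟨hirr⟩
  set T : Module.End F (ι → F) := Matrix.toLin' X with hT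
  have hroot : Polynomial.aeval T f = 0 := by
    rw [hf, map_sub, map_pow, Polynomial.aeval_X, Polynomial.aeval_C, hT, sq, Module.End.mul_eq_comp,
      ← Matrix.toLin'_mul, hX]
    ext v i
    simp [Algebra.algebraMap_eq_smul_one]
  set A : Subalgebra F (Module.End F (ι → F)) := Algebra.adjoin F ({T} : Set (Module.End F (ι → F))) with hA
  have hAcomm : IsMulCommutative A := Algebra.isMulCommutative_adjoin F (fun a ha b hb => by
    rw [Set.mem_singleton_iff] at ha hb
    rw [ha, hb])
  set T' : A := ⟨T, Algebra.self_mem_adjoin_singleton F T⟩ with hT'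
  have hroot' : f.eval₂ (Algebra.ofId F A : F →+* A) T' = 0 := by
    have h1 : Polynomial.aeval T' f = 0 := by
      apply Subtype.ext
      rw [Polynomial.aeval_subalgebra_coe]
      exact hroot
    rw [← h1, Polynomial.aeval_def]
    rfl
  set φ' : AdjoinRoot f →ₐ[F] A := AdjoinRoot.liftAlgHom f (Algebra.ofId F A) T' hroot' with hφ'
  set φ : AdjoinRoot f →ₐ[F] Module.End F (ι → F) := A.val.comp φ' with hφ
  have hφroot : φ (AdjoinRoot.root f) = T := by
    rw [hφ, AlgHom.comp_apply, hφ', AdjoinRoot.liftAlgHom_root]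
    rfl
  let instM : Module (AdjoinRoot f) (ι → F) := Module.compHom (ι → F) (φ : AdjoinRoot f →+* Module.End F (ι → F))
  have hsmul : ∀ (k : AdjoinRoot f) (v : ι → F), k • v = φ k v := fun k v => rfl
  have instT : IsScalarTower F (AdjoinRoot f) (ι → F) := ⟨fun a k v => by
    rw [hsmul, hsmul, map_smul]
    rfl⟩
  have : Module.Finite (AdjoinRoot f) (ι → F) := Module.Finite.of_restrictScalars_finite F _ _
  have hfr : Module.finrank (AdjoinRoot f) (ι → F) = b := by
    have h1 := Module.finrank_mul_finrank F (AdjoinRoot f) (ι → F)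
    rw [Module.finrank_fintype_fun_eq_card, hcard, (AdjoinRoot.powerBasis hf0).finrank,
      AdjoinRoot.powerBasis_dim, hdeg] at h1
    omega
  have hdim : (AdjoinRoot.powerBasis hf0).dim = 2 := by rw [AdjoinRoot.powerBasis_dim, hdeg]
  set bK : Module.Basis (Fin 2) F (AdjoinRoot f) :=
    (AdjoinRoot.powerBasis hf0).basis.reindex (finCongr hdim) with hbK
  set bV : Module.Basis (Fin b) (AdjoinRoot f) (ι → F) :=
    (Module.finBasis (AdjoinRoot f) (ι → F)).reindex (finCongr hfr) with hbV
  refine ⟨bK.smulTower bV, ?_⟩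
  intro j
  rw [Module.Basis.smulTower_apply, Module.Basis.smulTower_apply]
  have h0 : bK 0 = 1 := by
    rw [hbK, Module.Basis.reindex_apply, PowerBasis.basis_eq_pow]
    simp
  have h1 : bK 1 = AdjoinRoot.root f := by
    rw [hbK, Module.Basis.reindex_apply, PowerBasis.basis_eq_pow, AdjoinRoot.powerBasis_gen]
    simp
  simp only
  rw [h0, h1, one_smul, hsmul, hφroot, hT, Matrix.toLin'_apply]

end Cfsg.Agent.Lib.Helper22.TD
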