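import Cfsg.Agent.Lib.Helper22.TD.Diag
import Cfsg.Agent.Lib.Helper22.TD.Block
import Cfsg.Agent.Lib.Helper22.TD.Arith

/-!
# S5979: the `only if` direction
-/

set_option autoImplicit false
set_option linter.unusedVariables false
set_option linter.unusedSectionVars false

namespace Cfsg.Agent.Lib.Helper22.TD

open Matrix
open Classical

variable {F : Type*} [Field F] [Fintype F] {a b n : ℕ}

theorem td_only_if (p : ℕ) [Fact p.Prime] [CharP F p] (hn : n = a * b) (ha : 2 ≤ a) (hab : a < b)
    (e : Fin n ≃ Fin a × Fin b) (P : GL (Fin n) F) (r : ℕ) [Fact r.Prime]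
    (hΩ : r ∣ (Cfsg.Geo.tensorProductSubgroup a b e P).relIndex (Cfsg.Geo.specialLinear (Fin n) F))
    (hall : TdAll a b e P r) :
    r = 2 ∧ a = 2 ∧ Odd (Fintype.card F) ∧
      padicValNat 2 (Fintype.card F - 1) ≤ padicValNat 2 n := by
  have hrp : r.Prime := Fact.out
  have hpp : p.Prime := Fact.out
  have hn6 : 6 ≤ n := by nlinarith
  -- r ≠ p
  have hrne : r ≠ p := by
    rintro rfl
    exact td_case_char r ha hab hn e P hall
  -- r ∤ q
  have hrq : ¬ r ∣ Fintype.card F := by
    obtain ⟨k, -, hk⟩ := FiniteField.card F p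
    rw [hk]
    intro h
    exact hrne ((Nat.prime_dvd_prime_iff_eq hrp hpp).mp (hrp.dvd_of_dvd_pow h))
  -- the order of q mod r is at most n
  have hcard : r ∣ Nat.card (GL (Fin n) F) := by
    have h1 : (Cfsg.Geo.tensorProductSubgroup a b e P).relIndex (Cfsg.Geo.specialLinear (Fin n) F) ∣
        Nat.card (Cfsg.Geo.specialLinear (Fin n) F) := Subgroup.index_dvd_card _
    exact (hΩ.trans h1).trans (Subgroup.card_subgroup_dvd_card _)
  have hle := td_order_le r n hrq hcard
  set m := orderOf ((Fintype.card F : ℕ) : ZMod r) with hm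
  have hm2 : m < 2 := by
    by_contra h
    exact td_case_block ha hab hn e P r hrq (by omega) hle hall
  have hqu : IsUnit ((Fintype.card F : ℕ) : ZMod r) := by
    rw [ZMod.isUnit_iff_coprime, Nat.coprime_comm]
    exact (Nat.Prime.coprime_iff_not_dvd hrp).mpr hrq
  have hm0 : 0 < m := hqu.isOfFinOrder.orderOf_pos
  have hm1 : m = 1 := by omega
  have hq1 : ((Fintype.card F : ℕ) : ZMod r) = 1 := orderOf_eq_one_iff.mp hm1
  have hr1 : r ∣ Fintype.card F - 1 := by
    have : ((Fintype.card F : ℕ) : ZMod r) = ((1 : ℕ) : ZMod r) := by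
      rw [hq1, Nat.cast_one]
    rw [ZMod.natCast_eq_natCast_iff] at this
    exact (Nat.modEq_iff_dvd' Fintype.card_pos).mp this.symm
  obtain ⟨ω, hω0, hωr, hω1, hω2⟩ := td_exists_omega (F := F) r hr1
  have hr2 : r = 2 := by
    by_contra h
    exact td_case_omega ha hab hn e P r ω hω0 hωr hω1 (hω2 h) hall
  subst hr2
  have hp2 : p ≠ 2 := fun h => hrne h.symm
  have h2F : (2 : F) ≠ 0 := by
    intro h
    have : ((2 : ℕ) : F) = 0 := by exact_mod_cast h
    rw [CharP.cast_eq_zero_iff F p] at this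
    exact hp2 ((Nat.prime_dvd_prime_iff_eq hpp Nat.prime_two).mp this)
  have hm11 : (-1 : F) ≠ 1 := by
    intro h
    apply h2F
    linear_combination -h
  have ha2 : a = 2 := by
    by_contra h
    exact td_case_minus_one (by omega) hab hn e P hm11 hall
  refine ⟨rfl, ha2, ?_, ?_⟩
  · rw [← Nat.not_even_iff_odd]
    intro h
    exact hrq h.two_dvd
  · by_contra h
    rw [not_le] at h
    obtain ⟨c, hc⟩ := td_exists_c (F := F) p hp2 n (by omega) h
    exact td_case_c ha2 hab hn e P h2F c hc hall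

end Cfsg.Agent.Lib.Helper22.TD
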