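import Mathlib

/-!
# S5979, `if` direction, split case: a matrix with `X * X = c² • 1` (`2 c ≠ 0`) is diagonalisable

`td_split_conj`: there are `k₊ + k₋ = |ι|` such that for every bijection `σ : ι ≃ Fin k₊ ⊕ Fin k₋` some invertible `Q` has
`X * Q = Q * diagonal (c on σ⁻¹(inl), -c on σ⁻¹(inr))`.
-/

set_option autoImplicit false
set_option linter.unusedVariables false
set_option linter.unusedSectionVars false

namespace Cfsg.Agent.Lib.Helper22.TD

open Matrix
open Classical

variable {F : Type*} [Field F] {ι : Type} [Fintype ι] [DecidableEq ι]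

/-- a basis of eigenvectors gives a diagonalising matrix. -/
theorem td_conj_of_basis (X : Matrix ι ι F) (B : Module.Basis ι F (ι → F)) (d : ι → F)
    (h : ∀ j, X *ᵥ (B j) = d j • B j) :
    ∃ Q : Matrix ι ι F, IsUnit Q.det ∧ X * Q = Q * Matrix.diagonal d := by
  refine ⟨Matrix.of (fun i j => B j i), ?_, ?_⟩
  · rw [← Matrix.isUnit_iff_isUnit_det, ← Matrix.linearIndependent_cols_iff_isUnit]
    have : (Matrix.of (fun i j => B j i)).col = fun j => B j := by
      funext j i
      rfl
    rw [this]
    exact B.linearIndependent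
  · ext i j
    rw [Matrix.mul_diagonal, Matrix.mul_apply]
    have := congrFun (h j) i
    simp only [Matrix.mulVec, dotProduct, Pi.smul_apply, smul_eq_mul] at this
    simp only [Matrix.of_apply]
    rw [this, mul_comm]

theorem td_split_conj (X : Matrix ι ι F) (c : F) (hc : c ≠ 0) (h2 : (2 : F) ≠ 0)
    (hX : X * X = (c * c) • (1 : Matrix ι ι F)) :
    ∃ k₁ k₂ : ℕ, k₁ + k₂ = Fintype.card ι ∧ ∀ σ : ι ≃ Fin k₁ ⊕ Fin k₂,
      ∃ Q : Matrix ι ι F, IsUnit Q.det ∧
        X * Q = Q * Matrix.diagonal (fun i => if (σ i).isLeft then c else -c) := by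
  set p : Submodule F (ι → F) := LinearMap.ker (X - c • (1 : Matrix ι ι F)).mulVecLin with hp
  set q : Submodule F (ι → F) := LinearMap.ker (X + c • (1 : Matrix ι ι F)).mulVecLin with hq
  have hmemp : ∀ v, v ∈ p ↔ X *ᵥ v = c • v := by
    intro v
    rw [hp, LinearMap.mem_ker, Matrix.mulVecLin_apply, Matrix.sub_mulVec, Matrix.smul_mulVec,
      Matrix.one_mulVec, sub_eq_zero]
  have hmemq : ∀ v, v ∈ q ↔ X *ᵥ v = (-c) • v := by
    intro v
    rw [hq, LinearMap.mem_ker, Matrix.mulVecLin_apply, Matrix.add_mulVec, Matrix.smul_mulVec,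
      Matrix.one_mulVec, neg_smul, add_eq_zero_iff_eq_neg]
  have hXX : ∀ v, X *ᵥ (X *ᵥ v) = (c * c) • v := by
    intro v
    rw [Matrix.mulVec_mulVec, hX, Matrix.smul_mulVec, Matrix.one_mulVec]
  have h2c : (2 * c : F) ≠ 0 := mul_ne_zero h2 hc
  have hcompl : IsCompl p q := by
    constructor
    · rw [Submodule.disjoint_def]
      intro v hvp hvq
      rw [hmemp] at hvp
      rw [hmemq] at hvq
      have h1 : (2 * c) • v = 0 := by
        have : c • v = (-c) • v := hvp.symm.trans hvq
        rw [neg_smul] at this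
        rw [mul_smul, two_smul]
        nth_rewrite 1 [this]
        exact neg_add_cancel _
      exact (smul_eq_zero.mp h1).resolve_left h2c
    · rw [codisjoint_iff, eq_top_iff]
      intro v _
      rw [Submodule.mem_sup]
      refine ⟨(2 * c)⁻¹ • (X *ᵥ v + c • v), ?_, (2 * c)⁻¹ • (c • v - X *ᵥ v), ?_, ?_⟩
      · apply Submodule.smul_mem
        rw [hmemp, Matrix.mulVec_add, hXX, Matrix.mulVec_smul, smul_add, mul_smul]
        abel
      · apply Submodule.smul_mem
        rw [hmemq, Matrix.mulVec_sub, hXX, Matrix.mulVec_smul, smul_sub, neg_smul, neg_smul, mul_smul]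
        abel
      · rw [← smul_add]
        have : X *ᵥ v + c • v + (c • v - X *ᵥ v) = (2 * c) • v := by
          rw [mul_smul, two_smul]
          abel
        rw [this, smul_smul, inv_mul_cancel₀ h2c, one_smul]
  refine ⟨Module.finrank F p, Module.finrank F q, ?_, ?_⟩
  · rw [Submodule.finrank_add_eq_of_isCompl hcompl, Module.finrank_fintype_fun_eq_card]
  intro σ
  set bp := Module.finBasis F p with hbp
  set bq := Module.finBasis F q with hbq
  set B₀ : Module.Basis (Fin (Module.finrank F p) ⊕ Fin (Module.finrank F q)) F (ι → F) :=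
    (bp.prod bq).map (Submodule.prodEquivOfIsCompl p q hcompl) with hB₀
  set B : Module.Basis ι F (ι → F) := B₀.reindex σ.symm with hB
  apply td_conj_of_basis X B
  intro j
  have hBj : B j = B₀ (σ j) := by
    rw [hB, Module.Basis.reindex_apply, Equiv.symm_symm]
  rw [hBj]
  rcases hσ : σ j with i | i
  · have h1 : B₀ (Sum.inl i) = ((bp i : p) : ι → F) := by
      rw [hB₀, Module.Basis.map_apply, Submodule.coe_prodEquivOfIsCompl', Module.Basis.prod_apply_inl_fst,
        Module.Basis.prod_apply_inl_snd]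
      simp
    rw [h1]
    simp only [Sum.isLeft_inl, if_true]
    exact (hmemp _).mp (bp i).2
  · have h1 : B₀ (Sum.inr i) = ((bq i : q) : ι → F) := by
      rw [hB₀, Module.Basis.map_apply, Submodule.coe_prodEquivOfIsCompl', Module.Basis.prod_apply_inr_fst,
        Module.Basis.prod_apply_inr_snd]
      simp
    rw [h1]
    simp only [Sum.isLeft_inr, Bool.false_eq_true, if_false]
    exact (hmemq _).mp (bq i).2

end Cfsg.Agent.Lib.Helper22.TD
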