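import Mathlib
import Cfsg.Agent.Lib.Helper22.TD.Cyclic

/-!
# Semisimple conjugacy (general squarefree case)

`td_conj_of_squarefree`: two endomorphisms `T`, `T'` of finite-dimensional spaces killed by the same
squarefree polynomial `g`, such that `ker f(T)` and `ker f(T')` have the same dimension for every
irreducible factor `f` of `g`, are intertwined by a linear equivalence.
Matrix forms: `td_conj_matrix_of_squarefree`, `td_conj_gl_of_squarefree`.
-/

set_option autoImplicit false

namespace Cfsg.Agent.Lib.Helper22.TD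

open Polynomial
open Classical

universe u v w

variable {F : Type u} [Field F]

/-- Intertwining maps intertwine polynomials. -/
theorem td_aeval_intertwine {W V : Type*} [AddCommGroup W] [Module F W] [AddCommGroup V] [Module F V]
    (φ : W →ₗ[F] V) (S : Module.End F W) (T : Module.End F V) (h : ∀ w, φ (S w) = T (φ w))
    (p : F[X]) : ∀ w, φ (aeval S p w) = aeval T p (φ w) := by
  induction p using Polynomial.induction_on with
  | C a => intro w; simp [Algebra.algebraMap_eq_smul_one]
  | add p q hp hq => intro w; simp [hp w, hq w]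
  | monomial n a ih =>
    intro w
    have e1 : (C a * X ^ (n + 1) : F[X]) = (C a * X ^ n) * X := by rw [pow_succ, mul_assoc]
    have hS : aeval S (C a * X ^ (n + 1)) = aeval S (C a * X ^ n) * S := by
      rw [e1, map_mul, aeval_X]
    have hT : aeval T (C a * X ^ (n + 1)) = aeval T (C a * X ^ n) * T := by
      rw [e1, map_mul, aeval_X]
    rw [hS, hT, Module.End.mul_apply, Module.End.mul_apply, ih, h]

/-- `T` commutes with polynomials in `T`. -/
theorem td_aeval_comm {V : Type*} [AddCommGroup V] [Module F V] (T : Module.End F V) (p : F[X])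
    (v : V) : aeval T p (T v) = T (aeval T p v) := by
  have := td_aeval_intertwine (F := F) T T T (fun _ => rfl) p v
  exact this.symm

theorem td_ker_aeval_invt {V : Type*} [AddCommGroup V] [Module F V] (T : Module.End F V) (p : F[X]) :
    ∀ v ∈ LinearMap.ker (aeval T p), T v ∈ LinearMap.ker (aeval T p) := by
  intro v hv
  rw [LinearMap.mem_ker] at hv ⊢
  rw [td_aeval_comm, hv, map_zero]

theorem td_aeval_restrict_coe {V : Type*} [AddCommGroup V] [Module F V] (T : Module.End F V)
    (K : Submodule F V) (hK : ∀ v ∈ K, T v ∈ K) (p : F[X]) (w : K) :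
    ((aeval (T.restrict hK) p w : K) : V) = aeval T p (w : V) :=
  td_aeval_intertwine K.subtype (T.restrict hK) T (fun _ => rfl) p w

theorem td_finrank_ker_restrict {V : Type*} [AddCommGroup V] [Module F V] (T : Module.End F V)
    (K : Submodule F V) (hK : ∀ v ∈ K, T v ∈ K) (p : F[X])
    (hp : LinearMap.ker (aeval T p) ≤ K) :
    Module.finrank F (LinearMap.ker (aeval (T.restrict hK) p)) =
      Module.finrank F (LinearMap.ker (aeval T p)) := by
  rw [← Submodule.finrank_map_subtype_eq K (LinearMap.ker (aeval (T.restrict hK) p))]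
  have hmap : Submodule.map K.subtype (LinearMap.ker (aeval (T.restrict hK) p)) =
      LinearMap.ker (aeval T p) := by
    ext v
    simp only [Submodule.mem_map, LinearMap.mem_ker, Submodule.subtype_apply]
    constructor
    · rintro ⟨w, hw, rfl⟩
      rw [← td_aeval_restrict_coe T K hK p w, hw]; rfl
    · intro hv
      refine ⟨⟨v, hp (LinearMap.mem_ker.2 hv)⟩, ?_, rfl⟩
      apply Subtype.ext
      rw [td_aeval_restrict_coe]; exact hv
  rw [hmap]

theorem td_isCompl_ker {V : Type*} [AddCommGroup V] [Module F V] (T : Module.End F V)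
    (f h : F[X]) (hc : IsCoprime f h) (hT : aeval T (f * h) = 0) :
    IsCompl (LinearMap.ker (aeval T f)) (LinearMap.ker (aeval T h)) := by
  refine ⟨disjoint_ker_aeval_of_isCoprime T hc, ?_⟩
  rw [codisjoint_iff, sup_ker_aeval_eq_ker_aeval_mul_of_coprime T hc, hT]
  exact LinearMap.ker_zero

theorem td_ker_aeval_le_of_dvd {U : Type*} [AddCommGroup U] [Module F U] (S : Module.End F U)
    (f' h : F[X]) (hd : f' ∣ h) : LinearMap.ker (aeval S f') ≤ LinearMap.ker (aeval S h) := by
  obtain ⟨k, rfl⟩ := hd
  intro v hv
  rw [LinearMap.mem_ker] at hv ⊢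
  rw [mul_comm, map_mul, Module.End.mul_apply, hv, map_zero]

theorem td_conj_of_squarefree_aux : ∀ (n : ℕ) (V : Type v) (V' : Type w)
    [AddCommGroup V] [Module F V] [FiniteDimensional F V]
    [AddCommGroup V'] [Module F V'] [FiniteDimensional F V'] (g : F[X]), g.natDegree = n →
    Squarefree g → ∀ (T : Module.End F V) (T' : Module.End F V'),
    aeval T g = 0 → aeval T' g = 0 →
    (∀ f : F[X], Irreducible f → f ∣ g →
      Module.finrank F (LinearMap.ker (aeval T f)) = Module.finrank F (LinearMap.ker (aeval T' f))) →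
    ∃ e : V ≃ₗ[F] V', ∀ v, e (T v) = T' (e v) := by
  intro n
  induction n using Nat.strong_induction_on with
  | _ n ih =>
  intro V V' _ _ _ _ _ _ g hgn hsq T T' hT hT' hdim
  by_cases hu : IsUnit g
  · obtain ⟨c, hc, rfl⟩ := Polynomial.isUnit_iff.1 hu
    have hc0 : c ≠ 0 := hc.ne_zero
    have hV : Subsingleton V := by
      refine ⟨fun a b => ?_⟩
      have h1 : ∀ x : V, x = 0 := by
        intro x
        have := congrArg (fun S : Module.End F V => S x) hT
        simp only [aeval_C, Algebra.algebraMap_eq_smul_one, LinearMap.smul_apply,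
          Module.End.one_apply, LinearMap.zero_apply] at this
        exact (smul_eq_zero.1 this).resolve_left hc0
      rw [h1 a, h1 b]
    have hV' : Subsingleton V' := by
      refine ⟨fun a b => ?_⟩
      have h1 : ∀ x : V', x = 0 := by
        intro x
        have := congrArg (fun S : Module.End F V' => S x) hT'
        simp only [aeval_C, Algebra.algebraMap_eq_smul_one, LinearMap.smul_apply,
          Module.End.one_apply, LinearMap.zero_apply] at this
        exact (smul_eq_zero.1 this).resolve_left hc0
      rw [h1 a, h1 b]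
    exact ⟨LinearEquiv.ofSubsingleton V V', fun v => Subsingleton.elim _ _⟩
  · have hg0 : g ≠ 0 := hsq.ne_zero
    obtain ⟨f, hf, h, rfl⟩ := WfDvdMonoid.exists_irreducible_factor hu hg0
    have hf0 : f ≠ 0 := hf.ne_zero
    have hh0 : h ≠ 0 := right_ne_zero_of_mul hg0
    have hcop : IsCoprime f h := by
      rw [hf.coprime_iff_not_dvd]
      rintro ⟨k, rfl⟩
      exact hf.not_isUnit (hsq f ⟨k, by ring⟩)
    have hlt : h.natDegree < n := by
      rw [← hgn, natDegree_mul hf0 hh0]
      have := hf.natDegree_pos
      omega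
    have hsqh : Squarefree h := hsq.of_mul_right
    -- decompositions
    have hc := td_isCompl_ker T f h hcop hT
    have hc' := td_isCompl_ker T' f h hcop hT'
    set K1 := LinearMap.ker (aeval T f) with hK1
    set K2 := LinearMap.ker (aeval T h) with hK2
    set K1' := LinearMap.ker (aeval T' f) with hK1'
    set K2' := LinearMap.ker (aeval T' h) with hK2'
    have i1 := td_ker_aeval_invt T f
    have i2 := td_ker_aeval_invt T h
    have i1' := td_ker_aeval_invt T' f
    have i2' := td_ker_aeval_invt T' h
    -- the `f`-part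
    have hT1 : aeval (T.restrict i1) f = 0 := by
      ext w
      rw [td_aeval_restrict_coe]
      exact LinearMap.mem_ker.1 w.2
    have hT1' : aeval (T'.restrict i1') f = 0 := by
      ext w
      rw [td_aeval_restrict_coe]
      exact LinearMap.mem_ker.1 w.2
    obtain ⟨e1, he1⟩ := td_conj_of_irreducible f hf (T.restrict i1) hT1 (T'.restrict i1') hT1'
      (hdim f hf (dvd_mul_right f h))
    -- the `h`-part
    have hT2 : aeval (T.restrict i2) h = 0 := by
      ext w
      rw [td_aeval_restrict_coe]
      exact LinearMap.mem_ker.1 w.2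
    have hT2' : aeval (T'.restrict i2') h = 0 := by
      ext w
      rw [td_aeval_restrict_coe]
      exact LinearMap.mem_ker.1 w.2
    obtain ⟨e2, he2⟩ := ih h.natDegree hlt K2 K2' h rfl hsqh (T.restrict i2) (T'.restrict i2')
      hT2 hT2' (by
        intro f' hf' hd
        rw [td_finrank_ker_restrict T K2 i2 f' (td_ker_aeval_le_of_dvd T f' h hd),
          td_finrank_ker_restrict T' K2' i2' f' (td_ker_aeval_le_of_dvd T' f' h hd)]
        exact hdim f' hf' (hd.mul_left f))
    -- glue
    refine ⟨(Submodule.prodEquivOfIsCompl K1 K2 hc).symm ≪≫ₗ (e1.prodCongr e2) ≪≫ₗ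
      Submodule.prodEquivOfIsCompl K1' K2' hc', ?_⟩
    intro v
    obtain ⟨⟨w1, w2⟩, rfl⟩ := (Submodule.prodEquivOfIsCompl K1 K2 hc).surjective v
    have hTv : T (Submodule.prodEquivOfIsCompl K1 K2 hc (w1, w2)) =
        Submodule.prodEquivOfIsCompl K1 K2 hc ((T.restrict i1) w1, (T.restrict i2) w2) := by
      simp only [Submodule.coe_prodEquivOfIsCompl', map_add]
      rfl
    rw [hTv]
    simp only [LinearEquiv.trans_apply, LinearEquiv.symm_apply_apply, LinearEquiv.prodCongr_apply]
    rw [he1, he2]
    simp only [Submodule.coe_prodEquivOfIsCompl', map_add]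
    rfl

/-- **Semisimple conjugacy.** `T`, `T'` killed by a squarefree `g`, with equal kernel dimensions of
`f(T)`, `f(T')` for every irreducible factor `f` of `g`, are conjugate. -/
theorem td_conj_of_squarefree {V : Type v} {V' : Type w}
    [AddCommGroup V] [Module F V] [FiniteDimensional F V]
    [AddCommGroup V'] [Module F V'] [FiniteDimensional F V'] (g : F[X]) (hg : Squarefree g)
    (T : Module.End F V) (T' : Module.End F V') (hT : aeval T g = 0) (hT' : aeval T' g = 0)
    (hdim : ∀ f : F[X], Irreducible f → f ∣ g →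
      Module.finrank F (LinearMap.ker (aeval T f)) = Module.finrank F (LinearMap.ker (aeval T' f))) :
    ∃ e : V ≃ₗ[F] V', ∀ v, e (T v) = T' (e v) :=
  td_conj_of_squarefree_aux _ V V' g rfl hg T T' hT hT' hdim

/-! ### Matrix forms -/

theorem td_aeval_toLin' {n : Type*} [Fintype n] [DecidableEq n] (A : Matrix n n F) (p : F[X]) :
    aeval (Matrix.toLin' A) p = Matrix.toLin' (aeval A p) := by
  have := Polynomial.aeval_algHom_apply (Matrix.toLinAlgEquiv' (R := F) (n := n)).toAlgHom A p
  exact this

theorem td_finrank_ker_toLin' {n : Type*} [Fintype n] [DecidableEq n] (M : Matrix n n F) :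
    Module.finrank F (LinearMap.ker (Matrix.toLin' M)) = Fintype.card n - M.rank := by
  have h := LinearMap.finrank_range_add_finrank_ker (Matrix.toLin' M)
  rw [Module.finrank_fintype_fun_eq_card] at h
  have h2 : M.rank = Module.finrank F (LinearMap.range (Matrix.toLin' M)) := by
    rw [Matrix.rank, Matrix.toLin'_apply']
  omega

/-- **Semisimple conjugacy, matrix form.** -/
theorem td_conj_matrix_of_squarefree {n : Type*} [Fintype n] [DecidableEq n] (g : F[X])
    (hg : Squarefree g) (A B : Matrix n n F) (hA : aeval A g = 0) (hB : aeval B g = 0)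
    (hrank : ∀ f : F[X], Irreducible f → f ∣ g → (aeval A f).rank = (aeval B f).rank) :
    ∃ P : GL n F, (P : Matrix n n F) * A * ((P⁻¹ : GL n F) : Matrix n n F) = B := by
  obtain ⟨e, he⟩ := td_conj_of_squarefree g hg (Matrix.toLin' A) (Matrix.toLin' B)
    (by rw [td_aeval_toLin', hA, map_zero]) (by rw [td_aeval_toLin', hB, map_zero])
    (by
      intro f hf hd
      rw [td_aeval_toLin', td_aeval_toLin', td_finrank_ker_toLin', td_finrank_ker_toLin',
        hrank f hf hd])
  have h1 : LinearMap.toMatrix' e.toLinearMap * LinearMap.toMatrix' e.symm.toLinearMap = 1 := by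
    rw [← LinearMap.toMatrix'_comp]
    simp
  have h2 : LinearMap.toMatrix' e.symm.toLinearMap * LinearMap.toMatrix' e.toLinearMap = 1 := by
    rw [← LinearMap.toMatrix'_comp]
    simp
  refine ⟨⟨LinearMap.toMatrix' e.toLinearMap, LinearMap.toMatrix' e.symm.toLinearMap, h1, h2⟩, ?_⟩
  have hPA : LinearMap.toMatrix' e.toLinearMap * A = B * LinearMap.toMatrix' e.toLinearMap := by
    have hA' : A = LinearMap.toMatrix' (Matrix.toLin' A) := (LinearMap.toMatrix'_toLin' A).symm
    have hB' : B = LinearMap.toMatrix' (Matrix.toLin' B) := (LinearMap.toMatrix'_toLin' B).symm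
    rw [hA', hB', ← LinearMap.toMatrix'_comp, ← LinearMap.toMatrix'_comp]
    congr 1
    refine LinearMap.ext fun v => ?_
    simp only [LinearMap.coe_comp, Function.comp_apply, LinearEquiv.coe_coe]
    exact he v
  change LinearMap.toMatrix' e.toLinearMap * A * LinearMap.toMatrix' e.symm.toLinearMap = B
  rw [hPA, mul_assoc, h1, mul_one]

/-- **Semisimple conjugacy in `GL`.** -/
theorem td_conj_gl_of_squarefree {n : Type*} [Fintype n] [DecidableEq n] (g : F[X])
    (hg : Squarefree g) (x y : GL n F) (hx : aeval (x : Matrix n n F) g = 0)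
    (hy : aeval (y : Matrix n n F) g = 0)
    (hrank : ∀ f : F[X], Irreducible f → f ∣ g →
      (aeval (x : Matrix n n F) f).rank = (aeval (y : Matrix n n F) f).rank) :
    ∃ P : GL n F, P * x * P⁻¹ = y := by
  obtain ⟨P, hP⟩ := td_conj_matrix_of_squarefree g hg _ _ hx hy hrank
  exact ⟨P, Units.ext (by simpa using hP)⟩

theorem td_squarefree_X_pow_sub_C (r : ℕ) (hr : (r : F) ≠ 0) (z : F) (hz : z ≠ 0) :
    Squarefree (X ^ r - C z : F[X]) :=
  (Polynomial.separable_X_pow_sub_C z hr hz).squarefree

theorem td_aeval_X_pow_sub_C {n : Type*} [Fintype n] [DecidableEq n] (A : Matrix n n F) (r : ℕ)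
    (z : F) : aeval A (X ^ r - C z : F[X]) = A ^ r - z • (1 : Matrix n n F) := by
  simp [Algebra.algebraMap_eq_smul_one]

/-- Elements of `GL n F` with `x ^ r = z = y ^ r` (`r` prime to the characteristic), having the same
rank of `f(x)`, `f(y)` for every irreducible factor `f` of `X ^ r - z`, are conjugate. -/
theorem td_conj_gl_of_pow_eq {n : Type*} [Fintype n] [DecidableEq n] (r : ℕ) (hr : (r : F) ≠ 0)
    (z : F) (x y : GL n F)
    (hx : ((x ^ r : GL n F) : Matrix n n F) = z • (1 : Matrix n n F))
    (hy : ((y ^ r : GL n F) : Matrix n n F) = z • (1 : Matrix n n F))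
    (hrank : ∀ f : F[X], Irreducible f → f ∣ (X ^ r - C z : F[X]) →
      (aeval (x : Matrix n n F) f).rank = (aeval (y : Matrix n n F) f).rank) :
    ∃ P : GL n F, P * x * P⁻¹ = y := by
  by_cases hn : IsEmpty n
  · exact ⟨1, Units.ext (by ext i; exact (hn.false i).elim)⟩
  rw [not_isEmpty_iff] at hn
  have hz : z ≠ 0 := by
    rintro rfl
    rw [zero_smul] at hx
    have : IsUnit ((x ^ r : GL n F) : Matrix n n F) := (x ^ r).isUnit
    rw [hx] at this
    exact not_isUnit_zero this
  refine td_conj_gl_of_squarefree _ (td_squarefree_X_pow_sub_C r hr z hz) x y ?_ ?_ hrank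
  · rw [td_aeval_X_pow_sub_C, ← hx, Units.val_pow_eq_pow_val, sub_self]
  · rw [td_aeval_X_pow_sub_C, ← hy, Units.val_pow_eq_pow_val, sub_self]

end Cfsg.Agent.Lib.Helper22.TD
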